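import Cfsg.Agent.SolvStruct.Kegel.Final
import Cfsg.Agent.S0560
import Cfsg.Agent.SolvStruct.SystemCarter

/-!
The theorem of Kegel and Wielandt.
-/

set_option autoImplicit false

namespace Cfsg.Agent.SolvStruct.Kegel

open Cfsg Cfsg.Agent.Coprime Cfsg.Agent.Cores
open scoped Pointwise

universe u

theorem isNilpotent_map {G H : Type*} [Group G] [Group H] (f : G →* H) {A : Subgroup G}
    (hA : Group.IsNilpotent A) : Group.IsNilpotent (A.map f) := by
  haveI := hA
  exact Group.nilpotent_of_surjective (f.subgroupMap A) (f.subgroupMap_surjective A)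

/-- Kegel–Wielandt. -/
theorem isSolvable : ∀ (n : ℕ) (G : Type u) [Group G] [Finite G] (A B : Subgroup G),
    Nat.card G = n → Group.IsNilpotent A → Group.IsNilpotent B →
    (∀ g : G, ∃ a ∈ A, ∃ b ∈ B, g = a * b) → Group.IsSolvable G := by
  intro n
  induction n using Nat.strongRecOn with
  | ind n ih =>
  intro G _ _ A B hn hA hB hAB
  rcases subsingleton_or_nontrivial G with hs | hnt
  · exact Group.isSolvable_of_comm fun a b => Subsingleton.elim _ _
  by_contra hns
  obtain ⟨N, hNn, -, hN, hmin⟩ := Hall.exists_minimal_normal (⊤ : Subgroup G) top_ne_bot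
  have hquot : ∀ M : Subgroup G, ∀ [M.Normal], M ≠ ⊥ → Group.IsSolvable (G ⧸ M) := by
    intro M _ hM
    set f := QuotientGroup.mk' M
    refine ih _ ?_ (G ⧸ M) (A.map f) (B.map f) rfl (isNilpotent_map f hA) (isNilpotent_map f hB)
      fun g => ?_
    · rw [← hn, M.card_eq_card_quotient_mul_card_subgroup]
      exact lt_mul_of_one_lt_right Nat.card_pos (M.one_lt_card_iff_ne_bot.2 hM)
    · obtain ⟨g, rfl⟩ := QuotientGroup.mk'_surjective M g
      obtain ⟨a, ha, b, hb, rfl⟩ := hAB g
      exact ⟨f a, ⟨a, ha, rfl⟩, f b, ⟨b, hb, rfl⟩, map_mul f a b⟩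
  have hNs : ¬ Group.IsSolvable N := fun h =>
    hns (Solvable.HallOrder.isSolvable_of_quotient (N := N) h (hquot N hN))
  have huniq : ∀ M : Subgroup G, M.Normal → M ≠ ⊥ → N ≤ M := by
    intro M hM hM0
    haveI := hM
    by_contra hle
    haveI := hquot M hM0
    refine hNs (Group.isSolvable_of_isSolvable_injective
      (f := (QuotientGroup.mk' M).comp N.subtype) ((injective_iff_map_eq_one _).2 fun x hx => ?_))
    have h1 : (x : G) ∈ N ⊓ M := ⟨x.2, (QuotientGroup.eq_one_iff _).1 hx⟩
    rw [Hall.minimal_normal_inf_eq_bot hmin hle, Subgroup.mem_bot] at h1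
    exact Subtype.ext h1
  have hO : ∀ p : ℕ, p.Prime → pCore p G = ⊥ := by
    intro p hp
    haveI := Fact.mk hp
    by_contra h0
    exact hNs (Coprime.isSolvable_of_isPGroup
      ((pCore_isPGroup p).to_le (huniq _ inferInstance h0)))
  -- the factors have coprime orders
  have hcop : (Nat.card A).Coprime (Nat.card B) := by
    refine Nat.coprime_of_dvd fun p hp hpA hpB => ?_
    haveI := Fact.mk hp
    obtain ⟨SA, SB, R, hR⟩ := S0560.result A B hAB p
    set X := (SA : Subgroup A).map A.subtype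
    set Y := (SB : Subgroup B).map B.subtype
    have hnX : A ≤ Subgroup.normalizer (X : Set G) := by
      refine (Subgroup.normal_subgroupOf_iff_le_normalizer (Subgroup.map_subtype_le _)).1 ?_
      rw [Subgroup.subgroupOf, Subgroup.comap_map_eq_self_of_injective A.subtype_injective]
      haveI := hA; infer_instance
    have hnY : B ≤ Subgroup.normalizer (Y : Set G) := by
      refine (Subgroup.normal_subgroupOf_iff_le_normalizer (Subgroup.map_subtype_le _)).1 ?_
      rw [Subgroup.subgroupOf, Subgroup.comap_map_eq_self_of_injective B.subtype_injective]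
      haveI := hB; infer_instance
    have hperm : ∀ g : G, ∃ S : Subgroup G,
        (S : Set G) = (X : Set G) * ((MulAut.conj g • Y : Subgroup G) : Set G) := by
      intro g
      obtain ⟨a, ha, b, hb, rfl⟩ := hAB g
      refine ⟨MulAut.conj a • (R : Subgroup G), ?_⟩
      rw [conj_smul_mul, conj_smul_eq_self_iff.2 (hnY hb), Subgroup.coe_pointwise_smul, hR,
        smul_mul', ← Subgroup.coe_pointwise_smul, ← Subgroup.coe_pointwise_smul,
        conj_smul_eq_self_iff.2 (hnX ha)]
    have hcomm : ∀ x ∈ X, ∀ g : G, ∀ y ∈ MulAut.conj g • Y, x * y = y * x := by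
      intro x hx g
      refine commute_of_permutable _ G p rfl (hO p hp) X (MulAut.conj g • Y) (SA.2.map _)
        ((SB.2.map _).map _) (fun g' => ?_) x hx
      rw [← conj_smul_mul]
      exact hperm (g' * g)
    have hX0 : X ≠ ⊥ := fun he => SA.ne_bot_of_dvd_card hpA
      ((Subgroup.map_eq_bot_iff_of_injective _ A.subtype_injective).1 he)
    have hY0 : Y ≠ ⊥ := fun he => SB.ne_bot_of_dvd_card hpB
      ((Subgroup.map_eq_bot_iff_of_injective _ B.subtype_injective).1 he)
    have hNX : N ≤ Subgroup.normalClosure (X : Set G) :=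
      huniq _ inferInstance fun he => hX0 (le_bot_iff.1 (he ▸ Subgroup.le_normalClosure))
    have hNY : N ≤ Subgroup.normalClosure (Y : Set G) :=
      huniq _ inferInstance fun he => hY0 (le_bot_iff.1 (he ▸ Subgroup.le_normalClosure))
    have hc : Subgroup.normalClosure (X : Set G) ≤
        Subgroup.centralizer (Subgroup.normalClosure (Y : Set G) : Set G) := by
      refine (Subgroup.closure_le _).2 fun u hu => ?_
      obtain ⟨x, hx, hxu⟩ := Group.mem_conjugatesOfSet_iff.1 hu
      obtain ⟨k, rfl⟩ := isConj_iff.1 hxu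
      rw [SetLike.mem_coe, Subgroup.mem_centralizer_iff]
      intro w hw
      have hle : Subgroup.normalClosure (Y : Set G) ≤ Subgroup.centralizer {k * x * k⁻¹} := by
        refine (Subgroup.closure_le _).2 fun v hv => ?_
        obtain ⟨y, hy, hyv⟩ := Group.mem_conjugatesOfSet_iff.1 hv
        obtain ⟨m, rfl⟩ := isConj_iff.1 hyv
        rw [SetLike.mem_coe, Subgroup.mem_centralizer_singleton_iff]
        have h1 := hcomm x hx (k⁻¹ * m) (k⁻¹ * (m * y * m⁻¹) * k) (by
          rw [mem_conj_smul]; simpa [mul_assoc] using hy)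
        calc m * y * m⁻¹ * (k * x * k⁻¹) = k * ((k⁻¹ * (m * y * m⁻¹) * k) * x) * k⁻¹ := by
              simp [mul_assoc]
          _ = k * x * k⁻¹ * (m * y * m⁻¹) := by rw [← h1]; simp [mul_assoc]
      exact Subgroup.mem_centralizer_singleton_iff.1 (hle hw)
    refine hNs (Group.isSolvable_of_comm fun a b => Subtype.ext ?_)
    exact ((Subgroup.mem_centralizer_iff.1 (hc (hNX a.2))) b (hNY b.2)).symm
  -- the minimal normal subgroup is factorized, hence everything
  have hfac : Factorised A B N := by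
    intro g hg
    obtain ⟨a, ha, b, hb, rfl⟩ := hAB g
    set f := QuotientGroup.mk' N
    have h1 : f a * f b = 1 := by
      rw [← map_mul]; exact (QuotientGroup.eq_one_iff _).2 hg
    have h2 : f a = 1 := by
      refine orderOf_eq_one_iff.1 (Nat.eq_one_of_dvd_coprimes hcop
        ((orderOf_map_dvd f a).trans (A.orderOf_dvd_natCard ha)) ?_)
      rw [eq_inv_of_mul_eq_one_left h1, orderOf_inv]
      exact (orderOf_map_dvd f b).trans (B.orderOf_dvd_natCard hb)
    have haN : a ∈ N := (QuotientGroup.eq_one_iff a).1 h2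
    exact ⟨a, ⟨haN, ha⟩, b, ⟨by simpa using mul_mem (inv_mem haN) hg, hb⟩, rfl⟩
  have hsub : ∀ L : Subgroup G, L ≠ ⊤ → Factorised A B L → Group.IsSolvable L := by
    intro L hL hF
    have hlt : Nat.card L < n := hn ▸ lt_of_le_of_ne (Subgroup.card_le_card_group L)
      (fun h => hL (Subgroup.eq_top_of_card_eq L h))
    refine ih _ hlt L ((L ⊓ A).subgroupOf L) ((L ⊓ B).subgroupOf L) rfl
      (Cores.isNilpotent_subgroupOf (Cores.isNilpotent_to_le inf_le_right hA) L)
      (Cores.isNilpotent_subgroupOf (Cores.isNilpotent_to_le inf_le_right hB) L) fun g => ?_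
    obtain ⟨a, ha, b, hb, he⟩ := hF g g.2
    exact ⟨⟨a, ha.1⟩, ha, ⟨b, hb.1⟩, hb, Subtype.ext he⟩
  have hNT : N = ⊤ := by_contra fun h => hNs (hsub N h hfac)
  refine Min.false_of_min (A := A) (B := B) ⟨hA, hB, hcop, hAB, fun M hM => ?_, hns, hsub⟩
  rcases eq_or_ne M ⊥ with h | h
  · exact Or.inl h
  · exact Or.inr (top_le_iff.1 (hNT ▸ huniq M hM h))

/-- In a product of two nilpotent subgroups one factor lies in a proper normal subgroup. -/
theorem exists_normal_factor : ∀ (n : ℕ) (G : Type u) [Group G] [Finite G] (A B : Subgroup G),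
    Nat.card G = n → Group.IsNilpotent A → Group.IsNilpotent B →
    (∀ g : G, ∃ a ∈ A, ∃ b ∈ B, g = a * b) → (A ≠ ⊤ ∨ B ≠ ⊤) →
    ∃ N : Subgroup G, N.Normal ∧ N ≠ ⊤ ∧ (A ≤ N ∨ B ≤ N) := by
  intro n
  induction n using Nat.strongRecOn with
  | ind n ih =>
  intro G _ _ A B hn hA hB hAB hprop
  haveI : Group.IsSolvable G := isSolvable _ G A B rfl hA hB hAB
  have hcoat : ∀ {C : Subgroup G}, Group.IsNilpotent G → C ≠ ⊤ →
      ∃ N : Subgroup G, N.Normal ∧ N ≠ ⊤ ∧ C ≤ N := by
    intro C hG hC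
    obtain ⟨M, hM, hCM⟩ := (eq_top_or_exists_le_coatom C).resolve_left hC
    haveI := hG
    exact ⟨M, Subgroup.NormalizerCondition.normal_of_coatom M
      Group.normalizerCondition_of_isNilpotent hM, hM.1, hCM⟩
  by_cases hGnil : Group.IsNilpotent G
  · rcases hprop with h | h
    · obtain ⟨N, h1, h2, h3⟩ := hcoat hGnil h; exact ⟨N, h1, h2, Or.inl h3⟩
    · obtain ⟨N, h1, h2, h3⟩ := hcoat hGnil h; exact ⟨N, h1, h2, Or.inr h3⟩
  have hAT : A ≠ ⊤ := fun h => hGnil (by subst h; exact Group.nilpotent_of_mulEquiv Subgroup.topEquiv)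
  haveI : Nontrivial G := by
    by_contra h
    rw [not_nontrivial_iff_subsingleton] at h
    exact hGnil inferInstance
  obtain ⟨M, hMn, -, hM, hmin⟩ := Hall.exists_minimal_normal (⊤ : Subgroup G) top_ne_bot
  set f := QuotientGroup.mk' M
  have hfs : Function.Surjective f := QuotientGroup.mk'_surjective M
  by_cases hboth : A.map f = ⊤ ∧ B.map f = ⊤
  swap
  · have hlt : Nat.card (G ⧸ M) < n := by
      rw [← hn, M.card_eq_card_quotient_mul_card_subgroup]
      exact lt_mul_of_one_lt_right Nat.card_pos (M.one_lt_card_iff_ne_bot.2 hM)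
    obtain ⟨N, hN, hNT, hle⟩ := ih _ hlt (G ⧸ M) (A.map f) (B.map f) rfl (isNilpotent_map f hA)
      (isNilpotent_map f hB) (fun g => by
        obtain ⟨g, rfl⟩ := hfs g
        obtain ⟨a, ha, b, hb, rfl⟩ := hAB g
        exact ⟨f a, ⟨a, ha, rfl⟩, f b, ⟨b, hb, rfl⟩, map_mul f a b⟩)
      (not_and_or.1 hboth)
    haveI := hN
    exact ⟨N.comap f, inferInstance, fun he => hNT (by
      rw [← Subgroup.map_comap_eq_self_of_surjective hfs N, he,
        Subgroup.map_top_of_surjective _ hfs]),
      hle.imp Subgroup.map_le_iff_le_comap.1 Subgroup.map_le_iff_le_comap.1⟩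
  obtain ⟨hAM, hBM⟩ := hboth
  haveI := Hall.minimal_normal_isMulCommutative hmin
  -- both factors are complements of `M`
  have hcompl : ∀ C : Subgroup G, Group.IsNilpotent C → C.map f = ⊤ → C ≠ ⊤ →
      IsCoatom C ∧ (C.Normal ∨ Solvable.Carter.IsCarter C) := by
    intro C hC hCM hCT
    have hsup : C ⊔ M = ⊤ := by
      have h1 := congrArg (Subgroup.comap f) hCM
      rwa [Subgroup.comap_map_eq, QuotientGroup.ker_mk', Subgroup.comap_top] at h1
    have hcoat : IsCoatom C := by
      refine ⟨hCT, fun D hD => ?_⟩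
      by_contra hDT
      haveI : (M ⊓ D).Normal := by
        refine Subgroup.normalizer_eq_top_iff.1 (top_le_iff.1 ?_)
        rw [← hsup]
        have hMc : M ≤ Subgroup.centralizer ((M ⊓ D : Subgroup G) : Set G) := fun m hm =>
          Subgroup.mem_centralizer_iff.2 fun z hz =>
            congrArg Subtype.val
              (IsMulCommutative.is_comm.comm (⟨z, (Subgroup.mem_inf.1 hz).1⟩ : M) ⟨m, hm⟩)
        refine sup_le (fun c hc => ?_) (hMc.trans (Subgroup.centralizer_le_normalizer _))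
        rw [← conj_smul_eq_self_iff, Subgroup.smul_inf,
            conj_smul_eq_self_iff.2 (show c ∈ Subgroup.normalizer (M : Set G) by
              rw [Subgroup.normalizer_eq_top_iff.2 hMn]; trivial),
            conj_smul_eq_self_iff.2 (Subgroup.le_normalizer (hD.le hc))]
      rcases hmin (M ⊓ D) inferInstance inf_le_left with h0 | h0
      · refine hD.not_ge fun d hd => ?_
        obtain ⟨c, hc, m, hm, rfl⟩ :=
          Subgroup.mem_sup_of_normal_right.1 (show d ∈ C ⊔ M from hsup ▸ trivial)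
        have h2 : m ∈ M ⊓ D := Subgroup.mem_inf.2 ⟨hm, by simpa using mul_mem (inv_mem (hD.le hc)) hd⟩
        rw [h0, Subgroup.mem_bot] at h2
        rwa [h2, mul_one]
      · exact hDT (top_le_iff.1 (hsup ▸ sup_le hD.le (h0 ▸ inf_le_right)))
    refine ⟨hcoat, ?_⟩
    rcases hcoat.le_iff.1 (Subgroup.le_normalizer (H := C)) with h | h
    · exact Or.inl (Subgroup.normalizer_eq_top_iff.1 h)
    · exact Or.inr ⟨hC, h⟩
  by_cases hBT : B = ⊤
  · exact absurd hB fun h => hGnil (by subst hBT; haveI := h; exact Group.nilpotent_of_mulEquiv Subgroup.topEquiv)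
  obtain ⟨hAc, hA'⟩ := hcompl A hA hAM hAT
  obtain ⟨-, hB'⟩ := hcompl B hB hBM hBT
  rcases hA' with hA' | hA'
  · exact ⟨A, hA', hAT, Or.inl le_rfl⟩
  rcases hB' with hB' | hB'
  · exact ⟨B, hB', hBT, Or.inr le_rfl⟩
  obtain ⟨g, hg⟩ := (Solvable.Carter.carter_aux _ G rfl).2 A B hA' hB'
  exfalso
  obtain ⟨a, ha, b, hb, hgab⟩ := hAB g⁻¹
  rw [← hg, mem_conj_smul] at hb
  have hgA : g ∈ A := by
    have h1 : g⁻¹ = a * (g * (g⁻¹ * b * g) * g⁻¹) := by simpa [mul_assoc] using hgab
    have h2 : g = a⁻¹ * (g⁻¹ * b * g)⁻¹ := by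
      generalize g⁻¹ * b * g = c at h1 ⊢
      have h3 : a * (g * c) = 1 := by
        calc a * (g * c) = a * (g * c * g⁻¹) * g := by simp [mul_assoc]
          _ = 1 := by rw [← h1, inv_mul_cancel]
      rw [← eq_inv_of_mul_eq_one_right h3]; simp [mul_assoc]
    rw [h2]
    exact mul_mem (inv_mem ha) (inv_mem hb)
  have hBA : B = A := by rw [← hg, conj_smul_eq_self_iff.2 (Subgroup.le_normalizer hgA)]
  refine hAT (top_le_iff.1 fun x _ => ?_)
  obtain ⟨a', ha', b', hb'', rfl⟩ := hAB x
  exact mul_mem ha' (hBA ▸ hb'')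

end Cfsg.Agent.SolvStruct.Kegel
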