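import Cfsg.Agent.Lib.Hall.Product
import Cfsg.Agent.Lib.Coprime.Basic
import Cfsg.Agent.Lib.Cores.Basic
import Cfsg.Agent.Lib.Cores.Subnormal

/-!
Kegel: subgroups permutable with all conjugates of another subgroup.
-/

set_option autoImplicit false

namespace Cfsg.Agent.SolvStruct.Kegel

open Cfsg Cfsg.Agent.Coprime Cfsg.Agent.Cores
open scoped Pointwise

variable {G : Type*} [Group G]

/-- `Y` can be moved to the right of `X`. -/
def Perm (X Y : Subgroup G) : Prop :=
  (Y : Set G) * (X : Set G) ⊆ (X : Set G) * (Y : Set G)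

theorem perm_of_subgroup {X Y S : Subgroup G} (h : (S : Set G) = (X : Set G) * (Y : Set G)) :
    Perm X Y := by
  unfold Perm
  rw [← h]
  rintro _ ⟨y, hy, x, hx, rfl⟩
  have hyS : y ∈ (S : Set G) := h ▸ ⟨1, one_mem X, y, hy, one_mul y⟩
  have hxS : x ∈ (S : Set G) := h ▸ ⟨x, hx, 1, one_mem Y, mul_one x⟩
  exact mul_mem (SetLike.mem_coe.1 hyS) (SetLike.mem_coe.1 hxS)

theorem perm_conj {X Y : Subgroup G} (h : Perm X Y) (c : G) :
    Perm (MulAut.conj c • X) (MulAut.conj c • Y) := by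
  unfold Perm
  rw [Subgroup.coe_pointwise_smul, Subgroup.coe_pointwise_smul, ← smul_mul', ← smul_mul']
  exact Set.smul_set_mono h

theorem perm_sup [Finite G] {X Z Y : Subgroup G} (h1 : Perm X Y) (h2 : Perm Z Y) :
    Perm (X ⊔ Z) Y := by
  rintro _ ⟨y, hy, w, hw, rfl⟩
  change y * w ∈ _
  rw [SetLike.mem_coe, Subgroup.sup_eq_closure] at hw
  revert y
  refine Subgroup.closure_induction (p := fun w _ => ∀ y, y ∈ (Y : Set G) →
    y * w ∈ ((X ⊔ Z : Subgroup G) : Set G) * (Y : Set G)) ?_ ?_ ?_ ?_ hw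
  · rintro w (hw | hw) y hy
    · obtain ⟨x, hx, y', hy', he⟩ := h1 ⟨y, hy, w, hw, rfl⟩
      exact ⟨x, Subgroup.mem_sup_left hx, y', hy', he⟩
    · obtain ⟨x, hx, y', hy', he⟩ := h2 ⟨y, hy, w, hw, rfl⟩
      exact ⟨x, Subgroup.mem_sup_right hx, y', hy', he⟩
  · intro y hy
    exact ⟨1, one_mem _, y, hy, by simp⟩
  · intro u v _ _ hu hv y hy
    obtain ⟨s, hs, y', hy', he⟩ := hu y hy
    obtain ⟨s', hs', y'', hy'', he'⟩ := hv y' hy'
    refine ⟨s * s', mul_mem hs hs', y'', hy'', ?_⟩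
    simp only at he he' ⊢
    rw [mul_assoc, he', ← mul_assoc, he, mul_assoc]
  · intro u _ hu y hy
    have hn : ∀ n : ℕ, ∀ y, y ∈ (Y : Set G) →
        y * u ^ n ∈ ((X ⊔ Z : Subgroup G) : Set G) * (Y : Set G) := by
      intro n
      induction n with
      | zero => exact fun y hy => ⟨1, one_mem _, y, hy, by simp⟩
      | succ n ih =>
        intro y hy
        obtain ⟨s, hs, y', hy', he⟩ := ih y hy
        obtain ⟨s', hs', y'', hy'', he'⟩ := hu y' hy'
        refine ⟨s * s', mul_mem hs hs', y'', hy'', ?_⟩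
        simp only at he he' ⊢
        rw [pow_succ, mul_assoc, he', ← mul_assoc, he, mul_assoc]
    have hinv : u⁻¹ = u ^ (orderOf u - 1) := by
      refine inv_eq_of_mul_eq_one_right ?_
      rw [← pow_succ', Nat.sub_add_cancel (orderOf_pos u), pow_orderOf_eq_one]
    rw [hinv]
    exact hn _ y hy

theorem exists_subgroup_of_perm {X Y : Subgroup G} (h : Perm X Y) :
    ∃ S : Subgroup G, (S : Set G) = (X : Set G) * (Y : Set G) :=
  Hall.exists_subgroup_eq_mul h

set_option maxHeartbeats 400000 in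
/-- Kegel's lemma. -/
theorem exists_normal_proper [Finite G] : ∀ (n : ℕ) (A B : Subgroup G),
    Nat.card G - Nat.card A = n → A ≠ ⊥ → B ≠ ⊥ →
    (∀ x : G, ∃ S : Subgroup G, S ≠ ⊤ ∧
      (S : Set G) = (A : Set G) * ((MulAut.conj x • B : Subgroup G) : Set G)) →
    ∃ N : Subgroup G, N.Normal ∧ N ≠ ⊤ ∧ (A ≤ N ∨ B ≤ N) := by
  intro n
  induction n using Nat.strongRecOn with
  | ind n ih =>
  intro A B hn hA hB h
  by_cases hAc : Subgroup.normalClosure (A : Set G) = ⊤
  swap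
  · exact ⟨_, inferInstance, hAc, Or.inl Subgroup.le_normalClosure⟩
  by_cases hBc : Subgroup.normalClosure (B : Set G) = ⊤
  swap
  · exact ⟨_, inferInstance, hBc, Or.inr Subgroup.le_normalClosure⟩
  have hleft : ∀ {x : G} {S : Subgroup G},
      (S : Set G) = (A : Set G) * ((MulAut.conj x • B : Subgroup G) : Set G) →
      A ≤ S ∧ MulAut.conj x • B ≤ S := by
    intro x S hS
    exact ⟨fun a ha => SetLike.mem_coe.1 (hS ▸ ⟨a, ha, 1, one_mem _, mul_one a⟩),
      fun b hb => SetLike.mem_coe.1 (hS ▸ ⟨1, one_mem _, b, hb, one_mul b⟩)⟩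
  obtain ⟨x, c, hc, hcA⟩ : ∃ x, ∃ c ∈ MulAut.conj x • B,
      c ∉ Subgroup.normalizer (A : Set G) := by
    by_contra hne
    push Not at hne
    have htop : (⊤ : Subgroup G) ≤ Subgroup.normalizer (A : Set G) := by
      rw [← hBc, Subgroup.normalClosure, Subgroup.closure_le]
      intro z hz
      obtain ⟨b, hb, hbz⟩ := Group.mem_conjugatesOfSet_iff.1 hz
      obtain ⟨g, rfl⟩ := isConj_iff.1 hbz
      exact hne g _ (conj_mem_conj_smul hb)
    haveI := Subgroup.normalizer_eq_top_iff.1 (top_le_iff.1 htop)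
    rw [Subgroup.normalClosure_eq_self] at hAc
    obtain ⟨S, hS, hSe⟩ := h 1
    exact hS (top_le_iff.1 (hAc ▸ (hleft hSe).1))
  obtain ⟨S, hS, hSe⟩ := h x
  obtain ⟨hAS, hBS⟩ := hleft hSe
  set A' := A ⊔ MulAut.conj c • A
  have hA'S : A' ≤ S := sup_le hAS (by
    rw [← conj_smul_eq_self_iff.2 (Subgroup.le_normalizer (hBS hc))]
    exact Subgroup.pointwise_smul_le_pointwise_smul_iff.2 hAS)
  have hlt : Nat.card A < Nat.card A' := by
    refine lt_of_le_of_ne (Subgroup.card_le_of_le le_sup_left) fun he => hcA ?_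
    have h1 : A = A' := Subgroup.eq_of_le_of_card_ge le_sup_left he.ge
    rw [← conj_smul_eq_self_iff]
    exact Subgroup.eq_of_le_of_card_ge (le_trans le_sup_right h1.ge) (card_conj_smul c A).ge
  have h' : ∀ y : G, ∃ T : Subgroup G, T ≠ ⊤ ∧
      (T : Set G) = (A' : Set G) * ((MulAut.conj y • B : Subgroup G) : Set G) := by
    intro y
    obtain ⟨S₁, -, hS₁⟩ := h y
    obtain ⟨S₂, -, hS₂⟩ := h (c⁻¹ * y)
    have hp := perm_conj (perm_of_subgroup hS₂) c
    rw [← conj_smul_mul, mul_inv_cancel_left] at hp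
    obtain ⟨T, hT⟩ := exists_subgroup_of_perm (perm_sup (perm_of_subgroup hS₁) hp)
    refine ⟨T, fun hTtop => hS (top_le_iff.1 ?_), hT⟩
    -- otherwise `G = A' B^x ⊆ S`
    have huniv : ∀ g : G, ∃ a ∈ A', ∃ b ∈ B, g = a * (y * b * y⁻¹) := by
      intro g
      obtain ⟨a, ha, b', hb', hab⟩ : g ∈ (A' : Set G) * ((MulAut.conj y • B : Subgroup G) : Set G) :=
        by rw [← hT, hTtop]; exact Subgroup.mem_top g
      rw [SetLike.mem_coe, mem_conj_smul] at hb'
      exact ⟨a, ha, _, hb', hab.symm.trans (by simp [mul_assoc])⟩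
    intro g _
    obtain ⟨a₀, ha₀, b₀, hb₀, hx⟩ := huniv (x * y⁻¹)
    obtain ⟨a, ha, b, hb, rfl⟩ := huniv g
    have hxe : x = a₀ * y * b₀ := by
      rw [show x = x * y⁻¹ * y by rw [inv_mul_cancel_right], hx]; simp [mul_assoc]
    refine mul_mem (hA'S ha) ?_
    have h1 : x * (b₀⁻¹ * b * b₀) * x⁻¹ ∈ S :=
      hBS (conj_mem_conj_smul (mul_mem (mul_mem (inv_mem hb₀) hb) hb₀))
    have h2 : y * b * y⁻¹ = a₀⁻¹ * (x * (b₀⁻¹ * b * b₀) * x⁻¹) * a₀ := by
      rw [hxe]; simp [mul_assoc]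
    rw [h2]
    exact mul_mem (mul_mem (inv_mem (hA'S ha₀)) h1) (hA'S ha₀)
  exact (ih _ (by
    have := Subgroup.card_le_card_group A'
    omega) A' B rfl (fun hb => hA (le_bot_iff.1 (hb ▸ le_sup_left))) hB h').imp fun N hN =>
      ⟨hN.1, hN.2.1, hN.2.2.imp (fun h => le_sup_left.trans h) id⟩

/-- `p`-subgroups permutable with all conjugates commute, if `O_p = 1`. -/
theorem commute_of_permutable : ∀ (n : ℕ) (G : Type*) [Group G] [Finite G] (p : ℕ) [Fact p.Prime],
    Nat.card G = n → pCore p G = ⊥ → ∀ X Y : Subgroup G, IsPGroup p X → IsPGroup p Y →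
    (∀ g : G, ∃ S : Subgroup G,
      (S : Set G) = (X : Set G) * ((MulAut.conj g • Y : Subgroup G) : Set G)) →
    ∀ x ∈ X, ∀ y ∈ Y, x * y = y * x := by
  intro n
  induction n using Nat.strongRecOn with
  | ind n ih =>
  intro G _ _ p _ hn hO
  have aux : ∀ (X Y M : Subgroup G), IsPGroup p X → IsPGroup p Y →
      (∀ g : G, ∃ S : Subgroup G,
        (S : Set G) = (X : Set G) * ((MulAut.conj g • Y : Subgroup G) : Set G)) →
      M.Normal → M ≠ ⊤ → X ≤ M → ∀ x ∈ X, ∀ y ∈ Y, x * y = y * x := by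
    intro X Y M hX hY h hMn hM hXM x hx y hy
    set M₁ := Subgroup.normalClosure (X : Set G)
    have hXM₁ : X ≤ M₁ := Subgroup.le_normalClosure
    have hM₁M : M₁ ≤ M := by
      haveI := hMn
      exact Subgroup.normalClosure_le_normal hXM
    have hO₁ : pCore p M₁ = ⊥ := by
      refine (Subgroup.map_eq_bot_iff_of_injective _ M₁.subtype_injective).1 (le_bot_iff.1 ?_)
      exact hO ▸ map_pCore_subtype_le p M₁
    have hlt : Nat.card M₁ < n := hn ▸ lt_of_le_of_lt (Subgroup.card_le_of_le hM₁M)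
      (lt_of_le_of_ne (Subgroup.card_le_card_group M) fun he => hM (Subgroup.eq_top_of_card_eq M he))
    have hstep : ∀ g : G, ∀ a ∈ X, ∀ w ∈ MulAut.conj g • Y, w ∈ M₁ → a * w = w * a := by
      intro g a ha w hw hwM
      refine congrArg Subtype.val (ih _ hlt M₁ p rfl hO₁ (X.subgroupOf M₁)
        ((MulAut.conj g • Y).subgroupOf M₁) (hX.comap_of_injective _ M₁.subtype_injective)
        ((hY.map _).comap_of_injective _ M₁.subtype_injective) (fun m => ?_) ⟨a, hXM₁ ha⟩ ha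
        ⟨w, hwM⟩ hw)
      obtain ⟨S, hS⟩ := h ((m : G) * g)
      refine ⟨S.subgroupOf M₁, Set.ext fun z => ?_⟩
      rw [SetLike.mem_coe, Subgroup.mem_subgroupOf, ← SetLike.mem_coe, hS, Set.mem_mul, Set.mem_mul]
      constructor
      · rintro ⟨a', ha', w', hw', he⟩
        have hw'M : w' ∈ M₁ := by
          rw [show w' = a'⁻¹ * (z : G) by rw [← he, inv_mul_cancel_left]]
          exact mul_mem (inv_mem (hXM₁ ha')) z.2
        refine ⟨⟨a', hXM₁ ha'⟩, ha', ⟨w', hw'M⟩, ?_, Subtype.ext he⟩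
        rw [SetLike.mem_coe, mem_conj_smul, Subgroup.mem_subgroupOf]
        rw [SetLike.mem_coe, conj_smul_mul, mem_conj_smul] at hw'
        simpa using hw'
      · rintro ⟨a', ha', w', hw', he⟩
        refine ⟨(a' : G), ha', (w' : G), ?_, congrArg Subtype.val he⟩
        rw [SetLike.mem_coe, mem_conj_smul, Subgroup.mem_subgroupOf] at hw'
        rw [SetLike.mem_coe, conj_smul_mul, mem_conj_smul]
        simpa using hw'
    -- conjugates of `Y` meet `M₁` trivially
    have hint : ∀ g : G, ∀ w ∈ MulAut.conj g • Y, w ∈ M₁ → w = 1 := by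
      intro g w hw hwM
      have hcen : M₁ ≤ Subgroup.centralizer {w} := by
        refine (Subgroup.closure_le _).2 fun z hz => ?_
        obtain ⟨a, ha, haz⟩ := Group.mem_conjugatesOfSet_iff.1 hz
        obtain ⟨k, rfl⟩ := isConj_iff.1 haz
        have hw' : k⁻¹ * w * k ∈ MulAut.conj (k⁻¹ * g) • Y := by
          rw [conj_smul_mul, mem_conj_smul]; simpa [mul_assoc] using hw
        have hwM' : k⁻¹ * w * k ∈ M₁ := by
          simpa using (inferInstance : M₁.Normal).conj_mem w hwM k⁻¹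
        have h1 := hstep _ a ha _ hw' hwM'
        rw [SetLike.mem_coe, Subgroup.mem_centralizer_singleton_iff]
        calc k * a * k⁻¹ * w = k * (a * (k⁻¹ * w * k)) * k⁻¹ := by simp [mul_assoc]
          _ = w * (k * a * k⁻¹) := by rw [h1]; simp [mul_assoc]
      have hnorm : (Subgroup.zpowers (⟨w, hwM⟩ : M₁)).Normal := by
        refine ⟨fun z hz m => ?_⟩
        obtain ⟨i, rfl⟩ := hz
        have h2 : Commute m (⟨w, hwM⟩ : M₁) :=
          Subtype.ext (Subgroup.mem_centralizer_singleton_iff.1 (hcen m.2))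
        change m * (⟨w, hwM⟩ : M₁) ^ i * m⁻¹ ∈ Subgroup.zpowers (⟨w, hwM⟩ : M₁)
        rw [(h2.zpow_right i).eq, mul_inv_cancel_right]
        exact ⟨i, rfl⟩
      have hp : IsPGroup p (Subgroup.zpowers (⟨w, hwM⟩ : M₁)) :=
        ((hY.map (MulAut.conj g).toMonoidHom).comap_of_injective M₁.subtype
          M₁.subtype_injective).to_le (Subgroup.zpowers_le.2 hw)
      haveI := hnorm
      have h3 := (le_pCore hp) (Subgroup.mem_zpowers _)
      rw [hO₁, Subgroup.mem_bot] at h3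
      exact congrArg Subtype.val h3
    -- every conjugate of `Y` normalizes `X`
    have hnorm : ∀ g : G, ∀ w ∈ MulAut.conj g • Y, ∀ a ∈ X, w * a * w⁻¹ ∈ X := by
      intro g w hw a ha
      obtain ⟨S, hS⟩ := h g
      have haS : a ∈ S := SetLike.mem_coe.1 (hS ▸ ⟨a, ha, 1, one_mem _, mul_one a⟩)
      have hwS : w ∈ S := SetLike.mem_coe.1 (hS ▸ ⟨1, one_mem _, w, hw, one_mul w⟩)
      obtain ⟨a', ha', w', hw', he⟩ :
          w * a * w⁻¹ ∈ (X : Set G) * ((MulAut.conj g • Y : Subgroup G) : Set G) := by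
        rw [← hS]; exact mul_mem (mul_mem hwS haS) (inv_mem hwS)
      have hwM : w' ∈ M₁ := by
        rw [show w' = a'⁻¹ * (w * a * w⁻¹) by rw [← he, inv_mul_cancel_left]]
        exact mul_mem (inv_mem (hXM₁ ha')) ((inferInstance : M₁.Normal).conj_mem a (hXM₁ ha) w)
      rw [← he, hint g w' hw' hwM]
      simpa using ha'
    set K := Subgroup.normalClosure (Y : Set G)
    have hKX : K ≤ Subgroup.normalizer (X : Set G) := by
      refine (Subgroup.closure_le _).2 fun z hz => ?_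
      obtain ⟨b, hb, hbz⟩ := Group.mem_conjugatesOfSet_iff.1 hz
      obtain ⟨k, rfl⟩ := isConj_iff.1 hbz
      refine Subgroup.mem_normalizer_iff.2 fun a => ⟨hnorm k _ (conj_mem_conj_smul hb) a, fun ha => ?_⟩
      have h4 := hnorm k _ (inv_mem (conj_mem_conj_smul hb)) _ ha
      simpa [mul_assoc] using h4
    haveI : (Subgroup.comap K.subtype (X ⊓ K)).Normal := by
      refine (Subgroup.normal_subgroupOf_iff_le_normalizer inf_le_right).2 fun k hk => ?_
      rw [← conj_smul_eq_self_iff, Subgroup.smul_inf, conj_smul_eq_self_iff.2 (hKX hk),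
        conj_smul_eq_self_iff.2 (Subgroup.le_normalizer hk)]
    have hXK : X ⊓ K = ⊥ := by
      refine le_bot_iff.1 (hO ▸ le_trans (le_of_eq
        (Subgroup.map_subgroupOf_eq_of_le (inf_le_right : X ⊓ K ≤ K)).symm) ?_)
      exact (Subgroup.map_mono (le_pCore ((hX.to_le inf_le_left).comap_of_injective _
        K.subtype_injective))).trans (map_pCore_subtype_le p K)
    have hyK : y ∈ K := Subgroup.le_normalClosure hy
    have hc : x * (y * x⁻¹ * y⁻¹) ∈ X ⊓ K := by
      refine Subgroup.mem_inf.2 ⟨mul_mem hx ?_, ?_⟩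
      · exact ((Subgroup.mem_normalizer_iff.1 (hKX hyK)) _).1 (inv_mem hx)
      · rw [show x * (y * x⁻¹ * y⁻¹) = x * y * x⁻¹ * y⁻¹ by simp [mul_assoc]]
        exact mul_mem ((inferInstance : K.Normal).conj_mem y hyK x) (inv_mem hyK)
    rw [hXK, Subgroup.mem_bot] at hc
    rw [show x * (y * x⁻¹ * y⁻¹) = (x * y) * (y * x)⁻¹ by simp [mul_assoc], mul_inv_eq_one] at hc
    exact hc
  intro X Y hX hY h x hx y hy
  rcases eq_or_ne X ⊥ with rfl | hX0
  · rw [Subgroup.mem_bot.1 hx, one_mul, mul_one]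
  rcases eq_or_ne Y ⊥ with rfl | hY0
  · rw [Subgroup.mem_bot.1 hy, one_mul, mul_one]
  have hprop : ∀ g : G, ∃ S : Subgroup G, S ≠ ⊤ ∧
      (S : Set G) = (X : Set G) * ((MulAut.conj g • Y : Subgroup G) : Set G) := by
    intro g
    obtain ⟨S, hS⟩ := h g
    refine ⟨S, fun hT => hX0 ?_, hS⟩
    have hpG : IsPGroup p G := by
      obtain ⟨a, ha⟩ := IsPGroup.iff_card.1 hX
      obtain ⟨b, hb⟩ := IsPGroup.iff_card.1 hY
      have h1 := Hall.card_mul_inf X (MulAut.conj g • Y)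
      rw [← hS, hT, card_conj_smul, ha, hb, ← pow_add] at h1
      simp only [SetLike.coe_sort_coe, Subgroup.card_top] at h1
      obtain ⟨j, -, hj⟩ := (Nat.dvd_prime_pow (Fact.out : p.Prime)).1 (Dvd.intro _ h1)
      exact IsPGroup.of_card hj
    rw [(pCore_eq_top_iff p).2 hpG] at hO
    exact le_bot_iff.1 (hO ▸ le_top)
  obtain ⟨N, hN, hNT, hle⟩ := exists_normal_proper _ X Y rfl hX0 hY0 hprop
  rcases hle with hle | hle
  · exact aux X Y N hX hY h hN hNT hle x hx y hy
  · refine (aux Y X N hY hX (fun g => ?_) hN hNT hle y hy x hx).symm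
    obtain ⟨S, hS⟩ := h g⁻¹
    refine ⟨MulAut.conj g • S, ?_⟩
    have hinv : (S : Set G) = ((MulAut.conj g⁻¹ • Y : Subgroup G) : Set G) * (X : Set G) := by
      rw [← inv_coe_set (H := S), hS, mul_inv_rev, inv_coe_set, inv_coe_set]
    rw [Subgroup.coe_pointwise_smul, hinv, smul_mul', ← Subgroup.coe_pointwise_smul,
      ← Subgroup.coe_pointwise_smul, ← conj_smul_mul, mul_inv_cancel, conj_smul_one]

end Cfsg.Agent.SolvStruct.Kegel
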