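import Cfsg.Agent.SolvStruct.Schmidt
import Cfsg.Agent.SolvStruct.WielandtHall
import Cfsg.Agent.SolvStruct.FactorizedHall
import Cfsg.Agent.Lib.Cores.Nilpotent
import Cfsg.Agent.Lib.Cores.Fitting

/-!
Primary parts of nilpotent subgroups.
-/

set_option autoImplicit false

namespace Cfsg.Agent.SolvStruct.Kegel

open Cfsg Cfsg.Agent.Coprime Cfsg.Agent.Cores
open scoped Pointwise

variable {G : Type*} [Group G] [Finite G]

/-- The largest `p`-subgroup of a nilpotent subgroup `A`. -/
def part (A : Subgroup G) (p : ℕ) : Subgroup G := (pCore p A).map A.subtype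

theorem part_le (A : Subgroup G) (p : ℕ) : part A p ≤ A := Subgroup.map_subtype_le _

theorem isPGroup_part (A : Subgroup G) (p : ℕ) : IsPGroup p (part A p) :=
  (pCore_isPGroup p).map _

theorem part_normal (A : Subgroup G) (p : ℕ) : ((part A p).subgroupOf A).Normal := by
  rw [part, Subgroup.subgroupOf, Subgroup.comap_map_eq_self_of_injective A.subtype_injective]
  infer_instance

theorem le_normalizer_part (A : Subgroup G) (p : ℕ) :
    A ≤ Subgroup.normalizer (part A p : Set G) :=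
  (Subgroup.normal_subgroupOf_iff_le_normalizer (part_le A p)).1 (part_normal A p)

theorem le_part {A T : Subgroup G} [Group.IsNilpotent A] {p : ℕ} [Fact p.Prime] (hT : T ≤ A)
    (h : IsPGroup p T) : T ≤ part A p := by
  obtain ⟨S, hS⟩ := (h.comap_of_injective A.subtype A.subtype_injective).exists_le_sylow
  rw [← Subgroup.map_subgroupOf_eq_of_le hT]
  exact Subgroup.map_mono (hS.trans (le_pCore S.2))

theorem not_dvd_relIndex_part {A : Subgroup G} [Group.IsNilpotent A] {p : ℕ} [Fact p.Prime] :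
    ¬ p ∣ (part A p).relIndex A := by
  obtain ⟨S⟩ := (inferInstance : Nonempty (Sylow p A))
  rw [part, Subgroup.relIndex, Subgroup.subgroupOf,
    Subgroup.comap_map_eq_self_of_injective A.subtype_injective]
  exact fun hd => S.not_dvd_index (hd.trans (Subgroup.index_dvd_of_le (le_pCore S.2)))

theorem part_ne_bot {A : Subgroup G} [Group.IsNilpotent A] {p : ℕ} [Fact p.Prime]
    (hd : p ∣ Nat.card A) : part A p ≠ ⊥ := by
  intro h
  have h1 := not_dvd_relIndex_part (A := A) (p := p)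
  rw [h, Subgroup.relIndex_bot_left] at h1
  exact h1 hd

theorem le_of_parts {A X : Subgroup G} [Group.IsNilpotent A]
    (h : ∀ p : ℕ, p.Prime → p ∣ Nat.card A → part A p ≤ X) : A ≤ X := by
  have h1 : X.subgroupOf A = ⊤ := eq_top_of_sylow_le fun p hp hd => by
    haveI := Fact.mk hp
    obtain ⟨S⟩ := (inferInstance : Nonempty (Sylow p A))
    exact ⟨S, fun y hy => h p hp hd ⟨y, le_pCore S.2 hy, rfl⟩⟩
  exact Subgroup.subgroupOf_eq_top.1 h1

/-- Elements of coprime prime power order of a nilpotent subgroup commute. -/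
theorem part_le_centralizer {A T : Subgroup G} [Group.IsNilpotent A] {p q : ℕ} [Fact p.Prime]
    [Fact q.Prime] (hpq : q ≠ p) (hT : T ≤ A) (h : IsPGroup p T) :
    part A q ≤ Subgroup.centralizer (T : Set G) := fun x hx =>
  Subgroup.mem_centralizer_iff.2 fun y hy =>
    (Schmidt.commute_of_nilpotent (T := A) hpq (isPGroup_part A q) h (part_le A q hx) (hT hy) hx
      hy).symm

/-- Central elements of prime order exist in nilpotent subgroups. -/
theorem exists_central {A : Subgroup G} [Group.IsNilpotent A] {p : ℕ} [Fact p.Prime]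
    (hd : p ∣ Nat.card A) :
    ∃ z ∈ A, orderOf z = p ∧ ∀ a ∈ A, a * z = z * a := by
  obtain ⟨S⟩ := (inferInstance : Nonempty (Sylow p A))
  have hne : (S : Subgroup A) ⊓ Subgroup.center A ≠ ⊥ :=
    inf_center_ne_bot (S.ne_bot_of_dvd_card hd)
  haveI : Nontrivial ↥((S : Subgroup A) ⊓ Subgroup.center A) :=
    (Subgroup.nontrivial_iff_ne_bot _).2 hne
  obtain ⟨k, hk, hk'⟩ := (S.2.to_le (inf_le_left : (S : Subgroup A) ⊓ Subgroup.center A ≤ S)
    ).nontrivial_iff_card.1 inferInstance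
  obtain ⟨z, hz⟩ := exists_prime_orderOf_dvd_card' (G := ↥((S : Subgroup A) ⊓ Subgroup.center A)) p
    (hk' ▸ dvd_pow_self p hk.ne')
  refine ⟨((z : A) : G), (z : A).2, ?_, fun a ha => ?_⟩
  · rw [Subgroup.orderOf_coe, Subgroup.orderOf_coe, hz]
  · exact congrArg Subtype.val (Subgroup.mem_center_iff.1 z.2.2 ⟨a, ha⟩)

/-- A normalized subgroup of order prime to `X` lies in `Y` when `M = XY`. -/
theorem normal_le {M X Y W : Subgroup G} (hY : Y ≤ M) (hW : W ≤ M)
    (hYW : Y ≤ Subgroup.normalizer (W : Set G)) (hM : Nat.card M ∣ Nat.card X * Nat.card Y)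
    (hWX : (Nat.card W).Coprime (Nat.card X)) (hYX : (Nat.card Y).Coprime (Nat.card X)) :
    W ≤ Y := by
  have hle : Nat.card ↥(W ⊔ Y) ∣ Nat.card Y := by
    have h1 : Nat.card ↥(W ⊔ Y) ∣ Nat.card X * Nat.card Y :=
      (Subgroup.card_dvd_of_le (sup_le hW hY)).trans hM
    refine (Nat.Coprime.dvd_of_dvd_mul_left ?_ h1)
    haveI : (W.subgroupOf (W ⊔ Y)).Normal :=
      (Subgroup.normal_subgroupOf_iff_le_normalizer le_sup_left).2
        (sup_le Subgroup.le_normalizer hYW)
    have h2 := card_sup_dvd_mul (Y.subgroupOf (W ⊔ Y)) (W.subgroupOf (W ⊔ Y))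
    rw [← Subgroup.subgroupOf_sup (le_sup_right : Y ≤ W ⊔ Y) (le_sup_left : W ≤ W ⊔ Y),
      Nat.card_congr (Subgroup.subgroupOfEquivOfLe
        (sup_le le_sup_right le_sup_left : Y ⊔ W ≤ W ⊔ Y)).toEquiv,
      Nat.card_congr (Subgroup.subgroupOfEquivOfLe (le_sup_right : Y ≤ W ⊔ Y)).toEquiv,
      Nat.card_congr (Subgroup.subgroupOfEquivOfLe (le_sup_left : W ≤ W ⊔ Y)).toEquiv,
      sup_comm Y W] at h2
    exact (Nat.Coprime.mul_left hYX hWX).coprime_dvd_left h2
  rw [Subgroup.eq_of_le_of_card_ge (le_sup_right : Y ≤ W ⊔ Y) (Nat.le_of_dvd Nat.card_pos hle)]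
  exact le_sup_left

end Cfsg.Agent.SolvStruct.Kegel
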