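import Cfsg.Agent.SolvStruct.Kegel.Permutable
import Cfsg.Agent.SolvStruct.Kegel.Parts
import Cfsg.Agent.S0562
import Cfsg.Agent.Lib.Characters.Burnside
import Cfsg.Agent.Lib.Involutions.BaerSuzuki
import Cfsg.Agent.Lib.PLocal.ThompsonComplement
import Cfsg.Agent.Lib.Coprime.Sylow
import Cfsg.Agent.Solvable.Carter

/-!
Wielandt: a finite group which is the product of two nilpotent subgroups of coprime order is
solvable. This file refutes a minimal (simple) counterexample.
-/

set_option autoImplicit false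

namespace Cfsg.Agent.SolvStruct.Kegel

open Cfsg Cfsg.Agent.Coprime Cfsg.Agent.Cores
open scoped Pointwise

universe u

variable {G : Type u} [Group G]

/-- `L` is factorized by `A` and `B`. -/
def Factorised (A B L : Subgroup G) : Prop :=
  ∀ g ∈ L, ∃ a ∈ L ⊓ A, ∃ b ∈ L ⊓ B, g = a * b

/-- A minimal counterexample. -/
structure Min (A B : Subgroup G) : Prop where
  nilA : Group.IsNilpotent A
  nilB : Group.IsNilpotent B
  cop : (Nat.card A).Coprime (Nat.card B)
  mul : ∀ g : G, ∃ a ∈ A, ∃ b ∈ B, g = a * b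
  simple : ∀ N : Subgroup G, N.Normal → N = ⊥ ∨ N = ⊤
  nonsolv : ¬ Group.IsSolvable G
  sub : ∀ L : Subgroup G, L ≠ ⊤ → Factorised A B L → Group.IsSolvable L

theorem Factorised.symm {A B L : Subgroup G} (h : Factorised A B L) : Factorised B A L := by
  intro g hg
  obtain ⟨a, ha, b, hb, he⟩ := h g⁻¹ (inv_mem hg)
  exact ⟨b⁻¹, inv_mem hb, a⁻¹, inv_mem ha, by rw [← inv_inv g, he, mul_inv_rev]⟩

theorem mem_centralizer_singleton {x g : G} :
    g ∈ Subgroup.centralizer ({x} : Set G) ↔ g * x = x * g :=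
  Subgroup.mem_centralizer_singleton_iff

namespace Min

variable {A B : Subgroup G}

theorem symm (h : Min A B) : Min B A :=
  ⟨h.nilB, h.nilA, h.cop.symm, Hall.factorization_symm h.mul, h.simple, h.nonsolv,
    fun L hL hF => h.sub L hL hF.symm⟩

theorem left_ne_top (h : Min A B) : A ≠ ⊤ := by
  intro hA
  haveI := h.nilA
  refine h.nonsolv ?_
  have h1 : Group.IsNilpotent G := by
    subst hA
    exact Group.nilpotent_of_mulEquiv Subgroup.topEquiv
  infer_instance

theorem left_ne_bot (h : Min A B) : A ≠ ⊥ := by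
  intro hA
  refine h.symm.left_ne_top (top_le_iff.1 fun g _ => ?_)
  obtain ⟨a, ha, b, hb, rfl⟩ := h.mul g
  rw [hA, Subgroup.mem_bot] at ha
  rwa [ha, one_mul]

theorem normalizer_ne_top (h : Min A B) {D : Subgroup G} (hD : D ≠ ⊥) (hD' : D ≠ ⊤) :
    Subgroup.normalizer (D : Set G) ≠ ⊤ := fun he =>
  (h.simple D (Subgroup.normalizer_eq_top_iff.1 he)).elim hD hD'

theorem ne_top_of_le_left (h : Min A B) {D : Subgroup G} (hD : D ≤ A) : D ≠ ⊤ := fun he =>
  h.left_ne_top (top_le_iff.1 (he ▸ hD))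

variable [Finite G]

theorem disjoint (h : Min A B) : A ⊓ B = ⊥ := (disjoint_of_coprime h.cop).eq_bot

theorem card_eq (h : Min A B) : Nat.card G = Nat.card A * Nat.card B := by
  have h1 := Hall.card_factorization h.mul
  rwa [h.disjoint, Subgroup.card_bot, mul_one] at h1

theorem index_left (h : Min A B) : A.index = Nat.card B :=
  Nat.eq_of_mul_eq_mul_left (Nat.card_pos (α := A)) (A.card_mul_index.trans h.card_eq)

theorem hall_left (h : Min A B) : (Nat.card A).Coprime A.index := h.index_left ▸ h.cop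

theorem card_factorised (h : Min A B) {L : Subgroup G} (hF : Factorised A B L) :
    Nat.card L = Nat.card ↥(L ⊓ A) * Nat.card ↥(L ⊓ B) := by
  have h1 := Hall.card_mul_inf (L ⊓ A) (L ⊓ B)
  have h2 : (L ⊓ A) ⊓ (L ⊓ B) = ⊥ :=
    le_bot_iff.1 (h.disjoint ▸ inf_le_inf inf_le_right inf_le_right)
  have h3 : ((L ⊓ A : Subgroup G) : Set G) * ((L ⊓ B : Subgroup G) : Set G) = (L : Set G) := by
    refine Set.Subset.antisymm ?_ fun g hg => ?_
    · rintro _ ⟨a, ha, b, hb, rfl⟩
      exact mul_mem (inf_le_left (b := A) ha) (inf_le_left (b := B) hb)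
    · obtain ⟨a, ha, b, hb, rfl⟩ := hF g hg
      exact ⟨a, ha, b, hb, rfl⟩
  rw [h2, h3, Subgroup.card_bot, mul_one] at h1
  exact h1

theorem nil_inf (h : Min A B) (L : Subgroup G) : Group.IsNilpotent ↥(L ⊓ A) :=
  Cores.isNilpotent_to_le inf_le_right h.nilA

theorem factorised_of_ge (h : Min A B) {M : Subgroup G} (hA : A ≤ M) : Factorised A B M := by
  intro g hg
  obtain ⟨a, ha, b, hb, rfl⟩ := h.mul g
  exact ⟨a, ⟨hA ha, ha⟩, b, ⟨by simpa using mul_mem (inv_mem (hA ha)) hg, hb⟩, rfl⟩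

theorem part_inf (h : Min A B) {L : Subgroup G} {p : ℕ} [Fact p.Prime] (hle : part A p ≤ L) :
    part (L ⊓ A) p = part A p := by
  haveI := h.nilA
  haveI := h.nil_inf L
  exact le_antisymm (le_part ((part_le _ p).trans inf_le_right) (isPGroup_part _ p))
    (le_part (le_inf hle (part_le A p)) (isPGroup_part A p))

theorem part_inf_le (h : Min A B) (L : Subgroup G) {p : ℕ} [Fact p.Prime] :
    part (L ⊓ A) p ≤ part A p := by
  haveI := h.nilA
  exact le_part ((part_le _ p).trans inf_le_right) (isPGroup_part _ p)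

theorem mul_in (h : Min A B) {L : Subgroup G} (hL : L ≠ ⊤) (hF : Factorised A B L) (p q : ℕ)
    [Fact p.Prime] [Fact q.Prime] :
    ∃ U : Subgroup G, U ≤ L ∧ (U : Set G) = (part (L ⊓ A) p : Set G) * (part (L ⊓ B) q : Set G) := by
  haveI := h.sub L hL hF
  have hside : ∀ {A B : Subgroup G}, Min A B → Factorised A B L → ∀ (p : ℕ) [Fact p.Prime],
      (((part (L ⊓ A) p).subgroupOf L).subgroupOf ((L ⊓ A).subgroupOf L)).Normal ∧
      (Nat.card ((part (L ⊓ A) p).subgroupOf L)).Coprime ((part (L ⊓ A) p).subgroupOf L).index := by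
    intro A B h hF p _
    haveI := h.nil_inf L
    have hPL : part (L ⊓ A) p ≤ L := (part_le _ p).trans inf_le_left
    refine ⟨(Subgroup.normal_subgroupOf_iff_le_normalizer (show (part (L ⊓ A) p).subgroupOf L ≤
      (L ⊓ A).subgroupOf L from fun x hx => part_le (L ⊓ A) p hx)).2 ?_, ?_⟩
    · rw [← Subgroup.subgroupOf_normalizer_eq hPL]
      exact fun x hx => le_normalizer_part (L ⊓ A) p hx
    · rw [Nat.card_congr (Subgroup.subgroupOfEquivOfLe hPL).toEquiv]
      obtain ⟨k, hk⟩ := IsPGroup.iff_card.1 (isPGroup_part (L ⊓ A) p)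
      rw [hk]
      rcases Nat.eq_zero_or_pos k with rfl | hk0
      · simp
      have hpA : p ∣ Nat.card A := (dvd_pow_self p hk0.ne').trans
        (hk ▸ Subgroup.card_dvd_of_le ((part_le _ p).trans inf_le_right))
      refine Nat.Coprime.pow_left k (((Fact.out : p.Prime).coprime_iff_not_dvd).2 fun hd => ?_)
      change p ∣ (part (L ⊓ A) p).relIndex L at hd
      rw [← Subgroup.relIndex_mul_relIndex _ _ _ (part_le _ p) inf_le_left] at hd
      rcases (Fact.out : p.Prime).dvd_mul.1 hd with h1 | h1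
      · exact not_dvd_relIndex_part h1
      · have h2 := Subgroup.relIndex_mul_relIndex ⊥ (L ⊓ A) L bot_le inf_le_left
        rw [Subgroup.relIndex_bot_left, Subgroup.relIndex_bot_left, h.card_factorised hF] at h2
        rw [Nat.eq_of_mul_eq_mul_left Nat.card_pos h2] at h1
        exact (Fact.out : p.Prime).ne_one (Nat.eq_one_of_dvd_coprimes h.cop hpA
          (h1.trans (Subgroup.card_dvd_of_le inf_le_right)))
  obtain ⟨hPn, hPh⟩ := hside h hF p
  obtain ⟨hQn, hQh⟩ := hside h.symm hF.symm q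
  obtain ⟨U, hU⟩ := FactorizedHall.mul_subgroup (H := (L ⊓ A).subgroupOf L)
    (K := (L ⊓ B).subgroupOf L) (A := (part (L ⊓ A) p).subgroupOf L)
    (B := (part (L ⊓ B) q).subgroupOf L) (fun g => by
      obtain ⟨a, ha, b, hb, he⟩ := hF g g.2
      exact ⟨⟨a, ha.1⟩, ha, ⟨b, hb.1⟩, hb, Subtype.ext he⟩)
    (fun x hx => part_le (L ⊓ A) p hx) hPn (fun x hx => part_le (L ⊓ B) q hx) hQn hPh hQh
  refine ⟨U.map L.subtype, Subgroup.map_subtype_le U, ?_⟩
  rw [Subgroup.coe_map, hU, Set.image_mul, ← Subgroup.coe_map, ← Subgroup.coe_map,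
    Subgroup.map_subgroupOf_eq_of_le ((part_le _ p).trans inf_le_left),
    Subgroup.map_subgroupOf_eq_of_le ((part_le _ q).trans inf_le_left)]

/-- The normalizer of a join of normal subgroups of the factors is a proper factorized subgroup. -/
theorem join_normalizer (h : Min A B) {X Y : Subgroup G} (hX : X ≤ A)
    (hXn : (X.subgroupOf A).Normal) (hY : Y ≤ B) (hYn : (Y.subgroupOf B).Normal) (hX0 : X ≠ ⊥)
    (hT : X ⊔ Y ≠ ⊤) :
    ∃ L : Subgroup G, L ≠ ⊤ ∧ Factorised A B L ∧ X ≤ L ∧ Y ≤ L :=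
  ⟨Subgroup.normalizer ((X ⊔ Y : Subgroup G) : Set G),
    h.normalizer_ne_top (fun he => hX0 (le_bot_iff.1 (he ▸ le_sup_left))) hT,
    S0562.result A B X Y h.mul hX hXn hY hYn, le_sup_left.trans Subgroup.le_normalizer,
    le_sup_right.trans Subgroup.le_normalizer⟩

/-- No two Sylow subgroups of the factors generate a proper subgroup. -/
theorem no_PQ (h : Min A B) {p q : ℕ} [Fact p.Prime] [Fact q.Prime] (hp : p ∣ Nat.card A)
    (hq : q ∣ Nat.card B) (hT : part A p ⊔ part B q ≠ ⊤) : False := by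
  haveI := h.nilA
  haveI := h.nilB
  obtain ⟨L, hL, hF, hPL, hQL⟩ := h.join_normalizer (part_le A p) (part_normal A p) (part_le B q)
    (part_normal B q) (part_ne_bot hp) hT
  obtain ⟨U, hUL, hU⟩ := h.mul_in hL hF p q
  rw [h.part_inf hPL, h.symm.part_inf hQL] at hU
  have hprop : ∀ g : G, ∃ S : Subgroup G, S ≠ ⊤ ∧
      (S : Set G) = (part A p : Set G) * ((MulAut.conj g • part B q : Subgroup G) : Set G) := by
    intro g
    obtain ⟨a, ha, b, hb, rfl⟩ := h.mul g
    refine ⟨MulAut.conj a • U, fun he => hL (top_le_iff.1 ?_), ?_⟩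
    · refine le_trans (le_of_eq ?_) hUL
      rw [← conj_inv_smul_smul a U, he, conj_smul_eq_self_iff.2 (Subgroup.le_normalizer (Subgroup.mem_top a⁻¹))]
    · rw [conj_smul_mul, conj_smul_eq_self_iff.2 (le_normalizer_part B q hb),
        Subgroup.coe_pointwise_smul, hU, smul_mul', ← Subgroup.coe_pointwise_smul,
        ← Subgroup.coe_pointwise_smul, conj_smul_eq_self_iff.2 (le_normalizer_part A p ha)]
  obtain ⟨N, hN, hNT, hle⟩ :=
    exists_normal_proper _ _ _ rfl (part_ne_bot hp) (part_ne_bot hq) hprop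
  have hN0 : N = ⊥ := (h.simple N hN).resolve_right hNT
  subst hN0
  exact hle.elim (fun hh => part_ne_bot hp (le_bot_iff.1 hh))
    fun hh => part_ne_bot hq (le_bot_iff.1 hh)

/-- A normal subgroup of `P Q` inside one of the parts. -/
theorem exists_core_part (h : Min A B) {L : Subgroup G} (hL : L ≠ ⊤) (hF : Factorised A B L)
    (p q : ℕ) [hp : Fact p.Prime] [hq : Fact q.Prime] (hpq : p ≠ q)
    (hP : part (L ⊓ A) p ≠ ⊥) :
    ∃ W : Subgroup G, W ≠ ⊥ ∧ (W ≤ part (L ⊓ A) p ∨ W ≤ part (L ⊓ B) q) ∧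
      part (L ⊓ A) p ≤ Subgroup.normalizer (W : Set G) ∧
      part (L ⊓ B) q ≤ Subgroup.normalizer (W : Set G) := by
  obtain ⟨U, hUL, hU⟩ := h.mul_in hL hF p q
  set P := part (L ⊓ A) p
  set Q := part (L ⊓ B) q
  have hPU : P ≤ U := fun x hx => SetLike.mem_coe.1 (hU ▸ ⟨x, hx, 1, one_mem Q, mul_one x⟩)
  have hQU : Q ≤ U := fun x hx => SetLike.mem_coe.1 (hU ▸ ⟨1, one_mem P, x, hx, one_mul x⟩)
  haveI := h.sub L hL hF
  haveI : Group.IsSolvable U := Coprime.isSolvable_of_le hUL inferInstance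
  haveI : Nontrivial U := U.nontrivial_iff_ne_bot.2 fun he => hP (le_bot_iff.1 (he ▸ hPU))
  obtain ⟨W, hWn, -, hW, hmin⟩ := Hall.exists_minimal_normal (⊤ : Subgroup U) top_ne_bot
  obtain ⟨r, hr, hrd, hWr, -⟩ := Hall.minimal_normal_isElementaryAbelian hW hmin
  haveI : Fact r.Prime := ⟨hr⟩
  obtain ⟨i, hi⟩ := IsPGroup.iff_card.1 (isPGroup_part (L ⊓ A) p)
  obtain ⟨j, hj⟩ := IsPGroup.iff_card.1 (isPGroup_part (L ⊓ B) q)
  have hcard : Nat.card U ∣ Nat.card Q * Nat.card P := by
    have h1 := Hall.card_mul_inf P Q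
    rw [← hU] at h1
    exact ⟨_, (mul_comm _ _).trans h1.symm⟩
  have hcop : (Nat.card P).Coprime (Nat.card Q) := by
    rw [hi, hj]
    exact Nat.Coprime.pow _ _ ((Nat.coprime_primes hp.out hq.out).2 hpq)
  set W' := W.map U.subtype
  have hWU : W' ≤ U := Subgroup.map_subtype_le W
  have hUW : U ≤ Subgroup.normalizer (W' : Set G) := by
    refine (Subgroup.normal_subgroupOf_iff_le_normalizer hWU).1 ?_
    rw [Subgroup.subgroupOf, Subgroup.comap_map_eq_self_of_injective U.subtype_injective]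
    exact hWn
  refine ⟨W', fun he => hW ((Subgroup.map_eq_bot_iff_of_injective _ U.subtype_injective).1 he), ?_,
    hPU.trans hUW, hQU.trans hUW⟩
  obtain ⟨k, hk⟩ := IsPGroup.iff_card.1 (hWr.map U.subtype)
  have hrU : r ∣ p ^ i * q ^ j := by
    have h1 := (hrd.trans W.card_subgroup_dvd_card).trans hcard
    rwa [hi, hj, mul_comm] at h1
  rcases hr.dvd_mul.1 hrU with h1 | h1
  · left
    have hrp : r = p := (Nat.prime_dvd_prime_iff_eq hr hp.out).1 (hr.dvd_of_dvd_pow h1)
    refine normal_le hPU hWU (hPU.trans hUW) hcard ?_ hcop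
    rw [hk, hj, hrp]
    exact Nat.Coprime.pow _ _ ((Nat.coprime_primes hp.out hq.out).2 hpq)
  · right
    have hrq : r = q := (Nat.prime_dvd_prime_iff_eq hr hq.out).1 (hr.dvd_of_dvd_pow h1)
    refine normal_le hQU hWU (hQU.trans hUW) (by rwa [mul_comm]) ?_ hcop.symm
    rw [hk, hi, hrq]
    exact Nat.Coprime.pow _ _ ((Nat.coprime_primes hq.out hp.out).2 (Ne.symm hpq))

theorem zpowers_normal {z : G} (hzA : z ∈ A) (hzc : ∀ a ∈ A, a * z = z * a) :
    ((Subgroup.zpowers z).subgroupOf A).Normal := by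
  refine (Subgroup.normal_subgroupOf_iff_le_normalizer (Subgroup.zpowers_le.2 hzA)).2
    fun a ha => Subgroup.centralizer_le_normalizer _ ?_
  refine Subgroup.mem_centralizer_iff.2 fun w hw => ?_
  obtain ⟨i, rfl⟩ := hw
  exact ((show Commute a z from hzc a ha).zpow_right i).symm.eq

theorem sup_central_eq_top (h : Min A B) {t : G} (htc : ∀ b ∈ B, b * t = t * b) (ht : t ≠ 1) :
    A ⊔ Subgroup.zpowers t = ⊤ := by
  have htop : Subgroup.normalClosure ({t} : Set G) = ⊤ :=
    (h.simple _ inferInstance).resolve_left fun he => ht (Subgroup.mem_bot.1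
      (he ▸ Subgroup.subset_normalClosure rfl))
  rw [← top_le_iff, ← htop, Subgroup.normalClosure, Subgroup.closure_le]
  intro w hw
  obtain ⟨t', ht', hc⟩ := Group.mem_conjugatesOfSet_iff.1 hw
  rw [Set.mem_singleton_iff] at ht'
  subst ht'
  obtain ⟨g, rfl⟩ := isConj_iff.1 hc
  obtain ⟨a, ha, b, hb, rfl⟩ := h.mul g
  rw [show a * b * t' * (a * b)⁻¹ = a * (b * t' * b⁻¹) * a⁻¹ by simp [mul_assoc], htc b hb,
    mul_inv_cancel_right]
  exact mul_mem (mul_mem (Subgroup.mem_sup_left ha)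
    (Subgroup.mem_sup_right (Subgroup.mem_zpowers t'))) (inv_mem (Subgroup.mem_sup_left ha))

theorem exists_two (h : Min A B) (p : ℕ) [hp : Fact p.Prime] :
    ∃ r : ℕ, r.Prime ∧ r ∣ Nat.card A ∧ r ≠ p := by
  by_contra hne
  push Not at hne
  haveI := h.nilB
  obtain ⟨q, hq, hqd⟩ := Nat.exists_prime_and_dvd
    ((Subgroup.one_lt_card_iff_ne_bot _).2 h.symm.left_ne_bot).ne'
  haveI := Fact.mk hq
  obtain ⟨t, htB, hto, htc⟩ := exists_central (A := B) hqd
  haveI : Nontrivial G := ⟨⟨t, 1, fun he => hq.ne_one (by rw [← hto, he, orderOf_one])⟩⟩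
  haveI : IsSimpleGroup G := ⟨h.simple⟩
  have hC : B ≤ Subgroup.centralizer ({t} : Set G) := fun b hb =>
    mem_centralizer_singleton.2 (htc b hb)
  have hd := Subgroup.index_dvd_of_le hC
  rw [h.symm.index_left, Nat.eq_prime_pow_of_unique_prime_dvd Nat.card_pos.ne'
    (fun {d} hd hdd => hne d hd hdd)] at hd
  obtain ⟨i, -, hi⟩ := (Nat.dvd_prime_pow hp.out).1 hd
  have hprime := Characters.simple_prime_power_class hp.out
    (fun he => hq.ne_one (by rw [← hto, he, orderOf_one])) hi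
  haveI := Fact.mk hprime
  haveI : IsCyclic G := isCyclic_of_prime_card rfl
  exact h.nonsolv (Group.isSolvable_of_comm fun a b => mul_comm' a b)

theorem no_full (h : Min A B) {s q : ℕ} [Fact s.Prime] [Fact q.Prime] (hs : s ∣ Nat.card A)
    {t : G} (htB : t ∈ B) (hto : orderOf t = q) (htc : ∀ b ∈ B, b * t = t * b)
    (hT : part A s ⊔ Subgroup.zpowers t ≠ ⊤) : False := by
  haveI := h.nilA
  haveI := h.nilB
  have hqB : q ∣ Nat.card B := hto ▸ Subgroup.orderOf_dvd_natCard B htB
  have hsq : s ≠ q := fun he =>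
    (Fact.out : q.Prime).ne_one (Nat.eq_one_of_dvd_coprimes h.cop (he ▸ hs) hqB)
  obtain ⟨L, hL, hF, hPL, htL⟩ := h.join_normalizer (part_le A s) (part_normal A s)
    (Subgroup.zpowers_le.2 htB) (zpowers_normal htB htc) (part_ne_bot hs) hT
  haveI := h.symm.nil_inf L
  have htQ : t ∈ part (L ⊓ B) q :=
    le_part (le_inf htL (Subgroup.zpowers_le.2 htB))
      (IsPGroup.of_card (n := 1) (by rw [Nat.card_zpowers, hto, pow_one]))
      (Subgroup.mem_zpowers t)
  obtain ⟨W, hW, hWle, hPW, hQW⟩ := h.exists_core_part hL hF s q hsq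
    (by rw [h.part_inf hPL]; exact part_ne_bot hs)
  rw [h.part_inf hPL] at hWle hPW
  rcases hWle with hWP | hWQ
  · have hWA : W ≤ A := hWP.trans (part_le A s)
    have hA : A ≤ Subgroup.normalizer (W : Set G) := le_of_parts fun r hr hd => by
      haveI := Fact.mk hr
      by_cases hrs : r = s
      · subst hrs; exact hPW
      · exact (part_le_centralizer hrs hWA ((isPGroup_part A s).to_le hWP)).trans
          (Subgroup.centralizer_le_normalizer _)
    refine h.normalizer_ne_top hW (h.ne_top_of_le_left hWA) (top_le_iff.1 ?_)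
    rw [← h.sup_central_eq_top htc fun he => (Fact.out : q.Prime).ne_one
      (by rw [← hto, he, orderOf_one])]
    exact sup_le hA (Subgroup.zpowers_le.2 (hQW htQ))
  · have hWB : W ≤ part B q := hWQ.trans (h.symm.part_inf_le L)
    obtain ⟨r, hr, hrd, hrq⟩ := h.symm.exists_two q
    haveI := Fact.mk hr
    have h1 : part B r ≤ Subgroup.normalizer (W : Set G) :=
      (part_le_centralizer hrq (hWB.trans (part_le B q)) ((isPGroup_part B q).to_le hWB)).trans
        (Subgroup.centralizer_le_normalizer _)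
    refine h.no_PQ hs hrd fun he => ?_
    exact h.normalizer_ne_top hW (h.symm.ne_top_of_le_left (hWB.trans (part_le B q)))
      (top_le_iff.1 (he ▸ sup_le hPW h1))

theorem no_pair (h : Min A B) {p q : ℕ} [Fact p.Prime] [Fact q.Prime] {z t : G} (hzA : z ∈ A)
    (hzo : orderOf z = p) (hzc : ∀ a ∈ A, a * z = z * a) (htB : t ∈ B) (hto : orderOf t = q)
    (htc : ∀ b ∈ B, b * t = t * b)
    (hT : Subgroup.zpowers z ⊔ Subgroup.zpowers t ≠ ⊤) : False := by
  haveI := h.nilA
  haveI := h.nilB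
  have hpA : p ∣ Nat.card A := hzo ▸ Subgroup.orderOf_dvd_natCard A hzA
  have hqB : q ∣ Nat.card B := hto ▸ Subgroup.orderOf_dvd_natCard B htB
  have hpq : p ≠ q := fun he =>
    (Fact.out : q.Prime).ne_one (Nat.eq_one_of_dvd_coprimes h.cop (he ▸ hpA) hqB)
  have hz1 : Subgroup.zpowers z ≠ ⊥ := fun he => (Fact.out : p.Prime).ne_one (by
    rw [← hzo, Subgroup.zpowers_eq_bot.1 he, orderOf_one])
  obtain ⟨L, hL, hF, hzL, htL⟩ := h.join_normalizer (Subgroup.zpowers_le.2 hzA)
    (zpowers_normal hzA hzc) (Subgroup.zpowers_le.2 htB) (zpowers_normal htB htc) hz1 hT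
  haveI := h.nil_inf L
  haveI := h.symm.nil_inf L
  have hzP : Subgroup.zpowers z ≤ part (L ⊓ A) p :=
    le_part (le_inf hzL (Subgroup.zpowers_le.2 hzA))
      (IsPGroup.of_card (n := 1) (by rw [Nat.card_zpowers, hzo, pow_one]))
  have htQ : Subgroup.zpowers t ≤ part (L ⊓ B) q :=
    le_part (le_inf htL (Subgroup.zpowers_le.2 htB))
      (IsPGroup.of_card (n := 1) (by rw [Nat.card_zpowers, hto, pow_one]))
  obtain ⟨W, hW, hWle, hPW, hQW⟩ := h.exists_core_part hL hF p q hpq
    (fun he => hz1 (le_bot_iff.1 (he ▸ hzP)))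
  rcases hWle with hWP | hWQ
  · have hWA : W ≤ part A p := hWP.trans (h.part_inf_le L)
    obtain ⟨s, hs, hsd, hsp⟩ := h.exists_two p
    haveI := Fact.mk hs
    refine h.no_full hsd htB hto htc fun he => ?_
    refine h.normalizer_ne_top hW (h.ne_top_of_le_left (hWA.trans (part_le A p)))
      (top_le_iff.1 (he ▸ sup_le ?_ (htQ.trans hQW)))
    exact (part_le_centralizer hsp (hWA.trans (part_le A p)) ((isPGroup_part A p).to_le hWA)).trans
      (Subgroup.centralizer_le_normalizer _)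
  · have hWB : W ≤ part B q := hWQ.trans (h.symm.part_inf_le L)
    obtain ⟨s, hs, hsd, hsq⟩ := h.symm.exists_two q
    haveI := Fact.mk hs
    refine h.symm.no_full hsd hzA hzo hzc fun he => ?_
    refine h.normalizer_ne_top hW (h.symm.ne_top_of_le_left (hWB.trans (part_le B q)))
      (top_le_iff.1 (he ▸ sup_le ?_ (hzP.trans hPW)))
    exact (part_le_centralizer hsq (hWB.trans (part_le B q)) ((isPGroup_part B q).to_le hWB)).trans
      (Subgroup.centralizer_le_normalizer _)

/-- A central element of one factor normalizes no nontrivial subgroup of the other. -/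
theorem not_normalizes (h : Min A B) {q : ℕ} [Fact q.Prime] {t : G} (htB : t ∈ B)
    (hto : orderOf t = q) (htc : ∀ b ∈ B, b * t = t * b) {D : Subgroup G} {g : G}
    (hD : D ≤ MulAut.conj g • A) (hD0 : D ≠ ⊥)
    (ht : t ∈ Subgroup.normalizer (D : Set G)) : False := by
  haveI := h.nilA
  obtain ⟨b, hb, a, ha, rfl⟩ := Hall.factorization_symm h.mul g
  rw [conj_smul_mul, conj_smul_eq_self_iff.2 (Subgroup.le_normalizer ha)] at hD
  set D' := MulAut.conj b⁻¹ • D with hD'
  have hD'A : D' ≤ A := by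
    have h1 := Subgroup.pointwise_smul_le_pointwise_smul_iff (a := MulAut.conj b⁻¹) |>.2 hD
    rwa [conj_inv_smul_smul] at h1
  have hD'0 : D' ≠ ⊥ := fun he => hD0 (Subgroup.card_eq_one.1 (by
    rw [← card_conj_smul b⁻¹ D, ← hD', he, Subgroup.card_bot]))
  have ht' : t ∈ Subgroup.normalizer (D' : Set G) := by
    rw [hD', ← conj_smul_normalizer, mem_conj_smul, inv_inv, htc b hb, mul_inv_cancel_right]
    exact ht
  obtain ⟨p, hp, hpd⟩ := Nat.exists_prime_and_dvd
    ((Subgroup.one_lt_card_iff_ne_bot _).2 h.left_ne_bot).ne'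
  haveI := Fact.mk hp
  obtain ⟨z, hzA, hzo, hzc⟩ := exists_central (A := A) hpd
  refine h.no_pair hzA hzo hzc htB hto htc fun he => ?_
  refine h.normalizer_ne_top hD'0 (h.ne_top_of_le_left hD'A) (top_le_iff.1 (he ▸ sup_le ?_ ?_))
  · refine Subgroup.zpowers_le.2 (Subgroup.centralizer_le_normalizer _ ?_)
    exact Subgroup.mem_centralizer_iff.2 fun d hd => hzc d (hD'A hd)
  · exact Subgroup.zpowers_le.2 ht'

theorem centralizer_central_le (h : Min A B) {p : ℕ} [Fact p.Prime] {z : G} (hzA : z ∈ A)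
    (hzo : orderOf z = p) (hzc : ∀ a ∈ A, a * z = z * a) :
    Subgroup.centralizer ({z} : Set G) ≤ A := by
  intro g hg
  obtain ⟨a, ha, b, hb, rfl⟩ := h.mul g
  by_cases hb1 : b = 1
  · rwa [hb1, mul_one]
  exfalso
  have hz : z ∈ Subgroup.normalizer ((Subgroup.centralizer ({z} : Set G) ⊓ B : Subgroup G) : Set G) :=
    Subgroup.centralizer_le_normalizer _ (Subgroup.mem_centralizer_iff.2 fun c hc =>
      mem_centralizer_singleton.1 hc.1)
  have haC : a ∈ Subgroup.centralizer ({z} : Set G) := mem_centralizer_singleton.2 (hzc a ha)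
  have hbC : b ∈ Subgroup.centralizer ({z} : Set G) ⊓ B :=
    ⟨by simpa using mul_mem (inv_mem haC) hg, hb⟩
  exact h.symm.not_normalizes hzA hzo hzc (g := 1) (by rw [conj_smul_one]; exact inf_le_right)
    (fun he => hb1 (Subgroup.mem_bot.1 (he ▸ hbC))) hz

/-- Normal primary subgroups of a factorized subgroup containing a central element lie in `A`. -/
theorem core_le (h : Min A B) {M : Subgroup G} (hF : Factorised A B M) {p : ℕ} [Fact p.Prime]
    {z : G} (hzM : z ∈ M) (hzA : z ∈ A) (hzo : orderOf z = p)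
    (hzc : ∀ a ∈ A, a * z = z * a) (r : ℕ) (hr : r.Prime) :
    (pCore r M).map M.subtype ≤ A := by
  set O := (pCore r M).map M.subtype
  have hOM : O ≤ M := Subgroup.map_subtype_le _
  have hMO : M ≤ Subgroup.normalizer (O : Set G) := by
    refine (Subgroup.normal_subgroupOf_iff_le_normalizer hOM).1 ?_
    rw [Subgroup.subgroupOf, Subgroup.comap_map_eq_self_of_injective M.subtype_injective]
    infer_instance
  haveI := Fact.mk hr
  obtain ⟨k, hk⟩ := IsPGroup.iff_card.1 ((pCore_isPGroup (G := M) r).map M.subtype)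
  have hM := (h.card_factorised hF)
  by_cases hrB : r ∣ Nat.card B
  · have hOB : O ≤ M ⊓ B := by
      refine normal_le (X := M ⊓ A) inf_le_left hOM (inf_le_left.trans hMO) (dvd_of_eq hM) ?_ ?_
      · rw [hk]
        refine Nat.Coprime.pow_left k ((hr.coprime_iff_not_dvd).2 fun hd => hr.ne_one ?_)
        exact Nat.eq_one_of_dvd_coprimes h.cop (hd.trans (Subgroup.card_dvd_of_le inf_le_right)) hrB
      · exact Nat.Coprime.coprime_dvd_left (Subgroup.card_dvd_of_le inf_le_right)
          (Nat.Coprime.coprime_dvd_right (Subgroup.card_dvd_of_le inf_le_right) h.cop.symm)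
    by_cases hO : O = ⊥
    · rw [hO]; exact bot_le
    exact (h.symm.not_normalizes hzA hzo hzc (g := 1)
      (by rw [conj_smul_one]; exact hOB.trans inf_le_right) hO (hMO hzM)).elim
  · refine le_trans ?_ (inf_le_right : M ⊓ A ≤ A)
    refine normal_le (X := M ⊓ B) inf_le_left hOM (inf_le_left.trans hMO)
      (by rw [hM, mul_comm]) ?_ ?_
    · rw [hk]
      exact Nat.Coprime.pow_left k ((hr.coprime_iff_not_dvd).2 fun hd =>
        hrB (hd.trans (Subgroup.card_dvd_of_le inf_le_right)))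
    · exact Nat.Coprime.coprime_dvd_left (Subgroup.card_dvd_of_le inf_le_right)
        (Nat.Coprime.coprime_dvd_right (Subgroup.card_dvd_of_le inf_le_right) h.cop)

theorem central_mem_fitting (h : Min A B) {M : Subgroup G} (hM : M ≠ ⊤) (hF : Factorised A B M)
    {p : ℕ} [Fact p.Prime] {z : G} (hzM : z ∈ M) (hzA : z ∈ A) (hzo : orderOf z = p)
    (hzc : ∀ a ∈ A, a * z = z * a) :
    (fittingSubgroup M).map M.subtype ≤ A ∧ (⟨z, hzM⟩ : M) ∈ fittingSubgroup M := by
  haveI := h.sub M hM hF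
  have hFA : (fittingSubgroup M).map M.subtype ≤ A := by
    rw [fittingSubgroup_eq_iSup, Subgroup.map_iSup]
    exact iSup_le fun r => h.core_le hF hzM hzA hzo hzc r (Nat.prime_of_mem_primeFactors r.2)
  refine ⟨hFA, centralizer_fittingSubgroup_le (Subgroup.mem_centralizer_iff.2 fun f hf => ?_)⟩
  exact Subtype.ext (hzc (f : G) (hFA ⟨f, hf, rfl⟩))

theorem le_normalizer_of_ge (h : Min A B) {M : Subgroup G} (hA : A ≤ M) (hM : M ≠ ⊤) :
    M ≤ Subgroup.normalizer (A : Set G) := by
  haveI := h.nilA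
  suffices hle : ∀ m ∈ M, A ≤ MulAut.conj m • A by
    intro m hm
    rw [← conj_smul_eq_self_iff]
    exact (Subgroup.eq_of_le_of_card_ge (hle m hm) (card_conj_smul m A).le).symm
  intro m hm
  refine le_of_parts fun s hs hsd => ?_
  haveI := Fact.mk hs
  obtain ⟨p, hp, hpd, hps⟩ := h.exists_two s
  haveI := Fact.mk hp
  obtain ⟨z, hzA, hzo, hzc⟩ := exists_central (A := A) hpd
  obtain ⟨hFA, hzF⟩ := h.central_mem_fitting hM (h.factorised_of_ge hA) (hA hzA) hzA hzo hzc
  haveI : (fittingSubgroup M).Normal := Subgroup.sSup_normal _ fun _ hh => hh.1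
  have hz' : m * z * m⁻¹ ∈ A :=
    hFA ⟨_, (inferInstance : (fittingSubgroup M).Normal).conj_mem _ hzF ⟨m, hm⟩, rfl⟩
  have hcomm : part A s ≤ Subgroup.centralizer (Subgroup.zpowers (m * z * m⁻¹) : Set G) :=
    part_le_centralizer (Ne.symm hps) (Subgroup.zpowers_le.2 hz') (IsPGroup.of_card (n := 1) (by
      rw [Nat.card_zpowers, pow_one, ← MulAut.conj_apply,
        MulEquiv.orderOf_eq, hzo]))
  intro y hy
  rw [mem_conj_smul]
  refine h.centralizer_central_le hzA hzo hzc (mem_centralizer_singleton.2 ?_)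
  have h1 := Subgroup.mem_centralizer_iff.1 (hcomm hy) _ (Subgroup.mem_zpowers _)
  calc m⁻¹ * y * m * z = m⁻¹ * (y * (m * z * m⁻¹)) * m := by simp [mul_assoc]
    _ = z * (m⁻¹ * y * m) := by rw [← h1]; simp [mul_assoc]

theorem le_left_of_le_normalizer (h : Min A B) {W : Subgroup G}
    (hW : W ≤ Subgroup.normalizer (A : Set G)) (hcop : (Nat.card W).Coprime (Nat.card B)) :
    W ≤ A :=
  Solvable.Carter.le_of_coprime_relIndex le_rfl Subgroup.le_normalizer hW
    (hcop.coprime_dvd_right (h.index_left ▸ Subgroup.relIndex_dvd_index_of_le Subgroup.le_normalizer))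

theorem normalizer_part_le (h : Min A B) {s : ℕ} [Fact s.Prime] (hs : s ∣ Nat.card A) :
    Subgroup.normalizer (part A s : Set G) ≤ Subgroup.normalizer (A : Set G) := by
  haveI := h.nilA
  exact h.le_normalizer_of_ge (le_normalizer_part A s)
    (h.normalizer_ne_top (part_ne_bot hs) (h.ne_top_of_le_left (part_le A s)))

theorem centralizer_le_of_normalizes (h : Min A B) {p : ℕ} [Fact p.Prime] {x : G} (hx : x ∈ A)
    (hxo : orderOf x = p) (hxB : x ∈ Subgroup.normalizer (B : Set G)) :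
    Subgroup.centralizer ({x} : Set G) ≤ Subgroup.normalizer (A : Set G) := by
  haveI := h.nilA
  set M := Subgroup.centralizer ({x} : Set G)
  have hx1 : Subgroup.zpowers x ≠ ⊥ := fun he => (Fact.out : p.Prime).ne_one (by
    rw [← hxo, Subgroup.zpowers_eq_bot.1 he, orderOf_one])
  have hM : M ≠ ⊤ := fun he =>
    h.normalizer_ne_top hx1 (h.ne_top_of_le_left (Subgroup.zpowers_le.2 hx)) (top_le_iff.1
      (he ▸ fun g hg => Subgroup.centralizer_le_normalizer _ (Subgroup.mem_centralizer_iff.2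
        fun w hw => by
          obtain ⟨i, rfl⟩ := hw
          exact ((show Commute g x from mem_centralizer_singleton.1 hg).zpow_right i).symm.eq)))
  have hF : Factorised A B M := by
    intro g hg
    obtain ⟨a, ha, b, hb, rfl⟩ := h.mul g
    have h1 : a * b * x * (a * b)⁻¹ = x := by
      rw [mem_centralizer_singleton.1 hg, mul_inv_cancel_right]
    have h2 : b * x * b⁻¹ = a⁻¹ * x * a := by
      rw [show b * x * b⁻¹ = a⁻¹ * (a * b * x * (a * b)⁻¹) * a by simp [mul_assoc], h1]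
    have h3 : b * x * b⁻¹ * x⁻¹ ∈ A ⊓ B := by
      refine Subgroup.mem_inf.2 ⟨?_, ?_⟩
      · rw [h2]; exact mul_mem (mul_mem (mul_mem (inv_mem ha) hx) ha) (inv_mem hx)
      · rw [show b * x * b⁻¹ * x⁻¹ = b * (x * b⁻¹ * x⁻¹) by simp [mul_assoc]]
        exact mul_mem hb ((Subgroup.mem_normalizer_iff.1 hxB _).1 (inv_mem hb))
    rw [h.disjoint, Subgroup.mem_bot] at h3
    have hbM : b ∈ M := mem_centralizer_singleton.2
      (mul_inv_eq_iff_eq_mul.1 (mul_inv_eq_one.1 h3))
    exact ⟨a, ⟨by simpa using mul_mem hg (inv_mem hbM), ha⟩, b, ⟨hbM, hb⟩, rfl⟩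
  obtain ⟨r, hr, hrd, hrp⟩ := h.exists_two p
  haveI := Fact.mk hr
  obtain ⟨z, hzA, hzo, hzc⟩ := exists_central (A := A) hrd
  have hzM : z ∈ M := mem_centralizer_singleton.2 (hzc x hx).symm
  obtain ⟨hFA, hzF⟩ := h.central_mem_fitting hM hF hzM hzA hzo hzc
  set O := (pCore r M).map M.subtype
  have hzO : z ∈ O := by
    haveI : (fittingSubgroup M).Normal := Subgroup.sSup_normal _ fun _ hh => hh.1
    haveI := fittingSubgroup_isNilpotent (G := M)
    have hzp : IsPGroup r (Subgroup.zpowers (⟨⟨z, hzM⟩, hzF⟩ : fittingSubgroup M)) :=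
      IsPGroup.of_card (n := 1) (by
        rw [Nat.card_zpowers, pow_one, ← Subgroup.orderOf_coe, ← Subgroup.orderOf_coe, hzo])
    obtain ⟨S, hS⟩ := hzp.exists_le_sylow
    exact ⟨⟨z, hzM⟩, map_pCore_subtype_le r (fittingSubgroup M)
      ⟨_, le_pCore S.2 (hS (Subgroup.mem_zpowers _)), rfl⟩, rfl⟩
  have hOA : O ≤ A := h.core_le hF hzM hzA hzo hzc r hr
  have hMO : M ≤ Subgroup.normalizer (O : Set G) := by
    refine (Subgroup.normal_subgroupOf_iff_le_normalizer (Subgroup.map_subtype_le _)).1 ?_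
    rw [Subgroup.subgroupOf, Subgroup.comap_map_eq_self_of_injective M.subtype_injective]
    infer_instance
  have hAO : A ≤ Subgroup.normalizer (O : Set G) := le_of_parts fun s hs hsd => by
    haveI := Fact.mk hs
    by_cases hsr : s = r
    · subst hsr
      refine le_trans ?_ hMO
      have h1 := part_le_centralizer (A := A) (q := s) hrp (Subgroup.zpowers_le.2 hx)
        (IsPGroup.of_card (n := 1) (by rw [Nat.card_zpowers, hxo, pow_one]))
      exact h1.trans fun y hy => mem_centralizer_singleton.2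
        (Subgroup.mem_centralizer_iff.1 hy x (Subgroup.mem_zpowers x)).symm
    · exact (part_le_centralizer hsr hOA ((pCore_isPGroup r).map _)).trans
        (Subgroup.centralizer_le_normalizer _)
  refine hMO.trans (h.le_normalizer_of_ge hAO (h.normalizer_ne_top (fun he => ?_)
    (h.ne_top_of_le_left hOA)))
  rw [he, Subgroup.mem_bot] at hzO
  rw [hzO, orderOf_one] at hzo
  exact hr.ne_one hzo.symm

end Min

end Cfsg.Agent.SolvStruct.Kegel
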