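import Cfsg.Agent.SolvStruct.Kegel.Coprime

/-!
There is no minimal counterexample to Wielandt's theorem on coprime nilpotent factors.
-/

set_option autoImplicit false

namespace Cfsg.Agent.SolvStruct.Kegel.Min

open Cfsg Cfsg.Agent.Coprime Cfsg.Agent.Cores
open Cfsg.Agent.Transfer.NormalPComplement
open scoped Pointwise

universe u

variable {G : Type u} [Group G] [Finite G] {A B : Subgroup G}

theorem exists_conj_left (h : Min A B) {K : Subgroup G}
    (hK : ∀ r : ℕ, r.Prime → r ∣ Nat.card K → r ∣ Nat.card A) :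
    ∃ b ∈ B, K ≤ MulAut.conj b • A := by
  obtain ⟨g, hg⟩ := WielandtHall.le_conj_nilpotent_hall _ G A rfl h.nilA h.hall_left K hK
  obtain ⟨b, hb, a, ha, rfl⟩ := Hall.factorization_symm h.mul g
  exact ⟨b, hb, by rwa [conj_smul_mul, conj_smul_eq_self_iff.2 (Subgroup.le_normalizer ha)] at hg⟩

theorem isPGroup_zpowers_prime {p : ℕ} {x : G} (hx : orderOf x = p) :
    IsPGroup p (Subgroup.zpowers x) :=
  IsPGroup.of_card (n := 1) (by rw [Nat.card_zpowers, hx, pow_one])

/-- No involution: the factors have odd order. -/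
theorem not_two_dvd (h : Min A B) : ¬ 2 ∣ Nat.card B := by
  intro h2
  haveI := h.nilB
  haveI := Fact.mk Nat.prime_two
  obtain ⟨t, htB, hto, htc⟩ := exists_central (A := B) h2
  obtain ⟨c, hc1, hodd, hinv⟩ := Involutions.BaerSuzuki.exists_inverted_odd t hto fun N hN hN2 htN => by
    rcases h.simple N hN with rfl | rfl
    · rw [Subgroup.mem_bot] at htN
      rw [htN, orderOf_one] at hto
      exact Nat.one_ne_zero (by omega)
    · refine h.nonsolv ?_
      haveI := (hN2.of_equiv Subgroup.topEquiv).isNilpotent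
      infer_instance
  obtain ⟨r, hr, hrd⟩ := Nat.exists_prime_and_dvd (fun he => hc1 (orderOf_eq_one_iff.1 he))
  haveI := Fact.mk hr
  set x := c ^ (orderOf c / r) with hx
  have hxo : orderOf x = r := orderOf_pow_orderOf_div (orderOf_pos c).ne' hrd
  have hr2 : r ≠ 2 := fun he => by
    subst he
    exact Nat.not_even_iff_odd.2 hodd (even_iff_two_dvd.2 hrd)
  have hxinv : t * x * t⁻¹ = x⁻¹ := by rw [hx, ← conj_pow, hinv, inv_pow]
  have htN : t ∈ Subgroup.normalizer (Subgroup.zpowers x : Set G) := by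
    rw [← conj_smul_eq_self_iff, conj_smul_eq_map, MonoidHom.map_zpowers,
      show (MulAut.conj t).toMonoidHom x = x⁻¹ from hxinv, Subgroup.zpowers_inv]
  have hx0 : Subgroup.zpowers x ≠ ⊥ := fun he => hr.ne_one (by
    rw [← hxo, Subgroup.zpowers_eq_bot.1 he, orderOf_one])
  by_cases hrA : r ∣ Nat.card A
  · obtain ⟨b, hb, hle⟩ := h.exists_conj_left (K := Subgroup.zpowers x) fun s hs hd => by
      rw [Nat.card_zpowers, hxo] at hd
      rwa [(Nat.prime_dvd_prime_iff_eq hs hr).1 hd]
    exact h.not_normalizes htB hto htc hle hx0 htN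
  have hrB : r ∣ Nat.card B := by
    have h1 : r ∣ Nat.card G := hxo ▸ orderOf_dvd_natCard x
    rw [h.card_eq] at h1
    exact (hr.dvd_mul.1 h1).resolve_left hrA
  obtain ⟨a, ha, hle⟩ := h.symm.exists_conj_left
    (K := Subgroup.zpowers t ⊔ Subgroup.zpowers x) fun s hs hd => by
      haveI : ((Subgroup.zpowers x).subgroupOf (Subgroup.zpowers t ⊔ Subgroup.zpowers x)).Normal :=
        (Subgroup.normal_subgroupOf_iff_le_normalizer le_sup_right).2
          (sup_le (Subgroup.zpowers_le.2 htN) Subgroup.le_normalizer)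
      have h2 := card_sup_dvd_mul
        ((Subgroup.zpowers t).subgroupOf (Subgroup.zpowers t ⊔ Subgroup.zpowers x))
        ((Subgroup.zpowers x).subgroupOf (Subgroup.zpowers t ⊔ Subgroup.zpowers x))
      rw [← Subgroup.subgroupOf_sup le_sup_left le_sup_right, Subgroup.subgroupOf_self,
        Subgroup.card_top,
        Nat.card_congr (Subgroup.subgroupOfEquivOfLe
          (le_sup_left : Subgroup.zpowers t ≤ Subgroup.zpowers t ⊔ Subgroup.zpowers x)).toEquiv,
        Nat.card_congr (Subgroup.subgroupOfEquivOfLe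
          (le_sup_right : Subgroup.zpowers x ≤ Subgroup.zpowers t ⊔ Subgroup.zpowers x)).toEquiv,
        Nat.card_zpowers, Nat.card_zpowers, hto, hxo] at h2
      rcases hs.dvd_mul.1 (hd.trans h2) with h3 | h3
      · rwa [(Nat.prime_dvd_prime_iff_eq hs Nat.prime_two).1 h3]
      · rwa [(Nat.prime_dvd_prime_iff_eq hs hr).1 h3]
  haveI : Group.IsNilpotent ↥(MulAut.conj a • B) :=
    Group.nilpotent_of_mulEquiv (Subgroup.equivSMul (MulAut.conj a) B)
  have hcomm : x * t = t * x :=
    Schmidt.commute_of_nilpotent (T := MulAut.conj a • B) hr2 (isPGroup_zpowers_prime hxo)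
      (isPGroup_zpowers_prime hto) (hle (Subgroup.mem_sup_right (Subgroup.mem_zpowers x)))
      (hle (Subgroup.mem_sup_left (Subgroup.mem_zpowers t))) (Subgroup.mem_zpowers x)
      (Subgroup.mem_zpowers t)
  rw [← hcomm, mul_inv_cancel_right] at hxinv
  have h4 : x ^ 2 = 1 := by rw [pow_two]; nth_rewrite 2 [hxinv]; exact mul_inv_cancel x
  have h5 := orderOf_dvd_of_pow_eq_one h4
  rw [hxo] at h5
  exact hr2 ((Nat.prime_dvd_prime_iff_eq hr Nat.prime_two).1 h5)

/-- Elements of prime order of `A` have centralizers inside `N(A)`. -/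
theorem centralizer_prime_le (h : Min A B) {p : ℕ} [Fact p.Prime] {x : G} (hx : x ∈ A)
    (hxo : orderOf x = p) :
    Subgroup.centralizer ({x} : Set G) ≤ Subgroup.normalizer (A : Set G) := by
  haveI := h.nilA
  set L := Subgroup.centralizer ({x} : Set G) with hLdef
  by_cases hcase : ∃ q : ℕ, q.Prime ∧ q ∣ Nat.card B ∧
      q ∣ Nat.card ↥(L ⊓ Subgroup.normalizer (A : Set G))
  · obtain ⟨q, hq, hqB, hqd⟩ := hcase
    haveI := Fact.mk hq
    obtain ⟨e, he⟩ := exists_prime_orderOf_dvd_card'
      (G := ↥(L ⊓ Subgroup.normalizer (A : Set G))) q hqd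
    have heo : orderOf (e : G) = q := by rw [Subgroup.orderOf_coe, he]
    obtain ⟨a, ha, hle⟩ := h.symm.exists_conj_left (K := Subgroup.zpowers (e : G))
      fun s hs hd => by
        rw [Nat.card_zpowers, heo] at hd
        rwa [(Nat.prime_dvd_prime_iff_eq hs hq).1 hd]
    set e' := a⁻¹ * (e : G) * a with he'
    have haN : a ∈ Subgroup.normalizer (A : Set G) := Subgroup.le_normalizer ha
    have he'B : e' ∈ B := mem_conj_smul.1 (hle (Subgroup.mem_zpowers _))
    have he'o : orderOf e' = q := by
      rw [he', show a⁻¹ * (e : G) * a = MulAut.conj a⁻¹ (e : G) by simp [MulAut.conj_apply],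
        MulEquiv.orderOf_eq, heo]
    have he'A : e' ∈ Subgroup.normalizer (A : Set G) :=
      mul_mem (mul_mem (inv_mem haN) e.2.2) haN
    set x' := a⁻¹ * x * a with hx'
    have hx'A : x' ∈ A := mul_mem (mul_mem (inv_mem ha) hx) ha
    have hx'o : orderOf x' = p := by
      rw [hx', show a⁻¹ * x * a = MulAut.conj a⁻¹ x by simp [MulAut.conj_apply],
        MulEquiv.orderOf_eq, hxo]
    have heL : (e : G) * x = x * e := mem_centralizer_singleton.1 e.2.1
    have hx'e : x' ∈ Subgroup.centralizer ({e'} : Set G) := mem_centralizer_singleton.2 (by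
      rw [he', hx']
      calc a⁻¹ * x * a * (a⁻¹ * (e : G) * a) = a⁻¹ * (x * e) * a := by simp [mul_assoc]
        _ = a⁻¹ * (e : G) * a * (a⁻¹ * x * a) := by rw [← heL]; simp [mul_assoc])
    have h1 := h.centralizer_le_of_normalizes hx'A hx'o
      (h.symm.centralizer_le_of_normalizes he'B he'o he'A hx'e)
    intro c hc
    have h2 : a⁻¹ * c * a ∈ Subgroup.normalizer (A : Set G) := h1 (mem_centralizer_singleton.2 (by
      rw [hx']
      calc a⁻¹ * c * a * (a⁻¹ * x * a) = a⁻¹ * (c * x) * a := by simp [mul_assoc]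
        _ = a⁻¹ * x * a * (a⁻¹ * c * a) := by
          rw [mem_centralizer_singleton.1 hc]; simp [mul_assoc]))
    have h3 := mul_mem (mul_mem haN h2) (inv_mem haN)
    simpa [mul_assoc] using h3
  push Not at hcase
  obtain ⟨r, hr, hrd, hrp⟩ := h.exists_two p
  haveI := Fact.mk hr
  have hr2 : r ≠ 2 := fun he => h.symm.not_two_dvd (he ▸ hrd)
  set P := part A r with hP
  have hPL : P ≤ L := fun y hy => mem_centralizer_singleton.2
    ((Subgroup.mem_centralizer_iff.1 (part_le_centralizer hrp (Subgroup.zpowers_le.2 hx)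
      (isPGroup_zpowers_prime hxo) hy)) x (Subgroup.mem_zpowers x)).symm
  have hPidx : ¬ r ∣ (P.subgroupOf L).index := by
    intro hd
    have h1 : r ∣ P.index := hd.trans (Subgroup.relIndex_dvd_index_of_le hPL)
    rw [← Subgroup.relIndex_mul_index (part_le A r), h.index_left] at h1
    rcases hr.dvd_mul.1 h1 with h2 | h2
    · exact not_dvd_relIndex_part h2
    · exact hr.ne_one (Nat.eq_one_of_dvd_coprimes h.cop hrd h2)
  let T : Sylow r L :=
    (IsPGroup.comap_of_injective (isPGroup_part A r) L.subtype L.subtype_injective).toSylow hPidx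
  have hT : (T : Subgroup L).map L.subtype = P := Subgroup.map_subgroupOf_eq_of_le hPL
  have hLN : L ⊓ Subgroup.normalizer (A : Set G) ≤ A :=
    h.le_left_of_le_normalizer inf_le_right
      (Nat.coprime_of_dvd fun q hq hd hd' => hcase q hq hd' hd)
  have hnil : ∀ X : Subgroup L, X.map L.subtype ≤ A → HasNormalPComplement r X := by
    intro X hX
    haveI : Group.IsNilpotent (X.map L.subtype) := Cores.isNilpotent_to_le hX h.nilA
    haveI : Group.IsNilpotent X :=
      Group.nilpotent_of_mulEquiv (X.equivMapOfInjective _ L.subtype_injective).symm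
    obtain ⟨U, hU⟩ := Hall.exists_hall {r}ᶜ X
    refine hasNormalPComplement_iff_exists.2 ⟨U, Solvable.Carter.normal_hall_of_nilpotent hU,
      (isPi_iff_coprime r U).1 hU.1, _, Nat.eq_prime_pow_of_unique_prime_dvd
        Subgroup.index_ne_zero_of_finite fun {d} hd hdvd => ?_⟩
    by_contra hne
    exact hU.2 d hd hne hdvd
  obtain ⟨N, hNn, hNr, k, hk⟩ := hasNormalPComplement_iff_exists.1
    (PLocal.ThompsonComplement.hasNormalPComplement_of_thompson (G := L) hr2 T
      (hnil _ (by
        refine le_trans (le_inf (Subgroup.map_subtype_le _) ?_) hLN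
        refine (Subgroup.le_normalizer_map _).trans ?_
        rw [PLocal.ThompsonComplement.map_J L.subtype_injective.injOn, hT]
        refine h.le_normalizer_of_ge ((le_normalizer_part A r).trans
          (PLocal.ThompsonComplement.normalizer_le_J _)) ?_
        refine h.normalizer_ne_top ?_ (h.ne_top_of_le_left
          ((PLocal.ThompsonComplement.J_le _).trans (part_le A r)))
        intro he
        exact PLocal.ThompsonComplement.J_ne_bot (isPGroup_part A r) (part_ne_bot hrd) he))
      (hnil _ (by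
        obtain ⟨z, hzA, hzo, hzc⟩ := exists_central (A := A) hrd
        refine le_trans ?_ (h.centralizer_central_le hzA hzo hzc)
        rintro _ ⟨c, hc, rfl⟩
        have hzP : z ∈ P :=
          le_part (Subgroup.zpowers_le.2 hzA) (isPGroup_zpowers_prime hzo) (Subgroup.mem_zpowers z)
        refine mem_centralizer_singleton.2 (congrArg Subtype.val
          ((Subgroup.mem_centralizer_iff.1 hc ⟨z, hPL hzP⟩ ?_).symm))
        exact ⟨hzP, fun y hy => Subtype.ext (hzc (y : G) (part_le A r hy))⟩)))
  -- `L` has no prime divisor outside `A`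
  have hπ : ∀ q : ℕ, q.Prime → q ∣ Nat.card L → q ∣ Nat.card A := by
    intro q hq hqd
    by_contra hqA
    haveI := Fact.mk hq
    have hqB : q ∣ Nat.card B := by
      have h1 := hqd.trans L.card_subgroup_dvd_card
      rw [h.card_eq] at h1
      exact (hq.dvd_mul.1 h1).resolve_left hqA
    have hqN : q ∣ Nat.card N := by
      rw [← N.card_mul_index, hk] at hqd
      exact (hq.dvd_mul.1 hqd).resolve_right fun hd => hqA
        ((Nat.prime_dvd_prime_iff_eq hq hr).1 (hq.dvd_of_dvd_pow hd) ▸ hrd)
    set K := N.map L.subtype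
    have hKL : K ≤ L := Subgroup.map_subtype_le N
    have hLK : L ≤ Subgroup.normalizer (K : Set G) := by
      refine (Subgroup.normal_subgroupOf_iff_le_normalizer hKL).1 ?_
      rw [Subgroup.subgroupOf, Subgroup.comap_map_eq_self_of_injective L.subtype_injective]
      exact hNn
    have hcop : (Nat.card P).Coprime (Nat.card K) := by
      obtain ⟨i, hi⟩ := IsPGroup.iff_card.1 (isPGroup_part A r)
      rw [hi, Subgroup.card_map_of_injective L.subtype_injective]
      exact Nat.Coprime.pow_left i hNr.symm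
    haveI := h.nilA
    haveI : Group.IsNilpotent P := Cores.isNilpotent_to_le (part_le A r) h.nilA
    obtain ⟨R, hR⟩ := Coprime.exists_invariant_sylow q (hPL.trans hLK) hcop (Or.inl inferInstance)
    have hqK : q ∣ Nat.card K := by rwa [Subgroup.card_map_of_injective L.subtype_injective]
    set R' := (R : Subgroup K).map K.subtype
    obtain ⟨a, ha, hRB⟩ := h.symm.exists_conj_left (K := R') fun s hs hd => by
      obtain ⟨i, hi⟩ := IsPGroup.iff_card.1 (R.2.map K.subtype)
      rw [hi] at hd
      rwa [(Nat.prime_dvd_prime_iff_eq hs hq).1 (hs.dvd_of_dvd_pow hd)]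
    obtain ⟨z, hzA, hzo, hzc⟩ := exists_central (A := A) hrd
    exact h.symm.not_normalizes hzA hzo hzc hRB
      (fun he => R.ne_bot_of_dvd_card hqK
        ((Subgroup.map_eq_bot_iff_of_injective _ K.subtype_injective).1 he))
      (hR (le_part (Subgroup.zpowers_le.2 hzA) (isPGroup_zpowers_prime hzo) (Subgroup.mem_zpowers z)))
  obtain ⟨b, hb, hLA⟩ := h.exists_conj_left hπ
  haveI : Group.IsNilpotent ↥(MulAut.conj b • A) :=
    Group.nilpotent_of_mulEquiv (Subgroup.equivSMul (MulAut.conj b) A)
  have hbP : MulAut.conj b • P = P := by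
    have h1 : MulAut.conj b⁻¹ • P ≤ P := by
      refine le_part (A := A) ?_ ((isPGroup_part A r).map _)
      have h2 := Subgroup.pointwise_smul_le_pointwise_smul_iff (a := MulAut.conj b⁻¹) |>.2
        (hPL.trans hLA)
      rwa [conj_inv_smul_smul] at h2
    have h2 := Subgroup.eq_of_le_of_card_ge h1 (card_conj_smul b⁻¹ P).ge
    nth_rewrite 1 [← h2]
    rw [← conj_smul_mul, mul_inv_cancel, conj_smul_one]
  have hbN := h.normalizer_part_le hrd (conj_smul_eq_self_iff.1 hbP)
  rw [conj_smul_eq_self_iff.2 hbN] at hLA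
  exact hLA.trans Subgroup.le_normalizer

theorem false_of_min (h : Min A B) : False := by
  haveI := h.nilA
  suffices key : ∀ {A B : Subgroup G}, Min A B → Nat.card A ≤ Nat.card B by
    have h1 := le_antisymm (key h) (key h.symm)
    have h2 := h.cop
    rw [h1, Nat.coprime_self] at h2
    exact h.symm.left_ne_bot (Subgroup.card_eq_one.1 h2)
  intro A B h
  haveI := h.nilA
  obtain ⟨g, hg⟩ : ∃ g, g ∉ Subgroup.normalizer (A : Set G) := by
    by_contra hne
    push Not at hne
    exact h.normalizer_ne_top h.left_ne_bot h.left_ne_top (top_le_iff.1 fun g _ => hne g)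
  have hTI : A ⊓ MulAut.conj g • A = ⊥ := by
    by_contra hne
    obtain ⟨p, hp, hpd⟩ :=
      Nat.exists_prime_and_dvd ((Subgroup.one_lt_card_iff_ne_bot _).2 hne).ne'
    haveI := Fact.mk hp
    obtain ⟨x, hx⟩ := exists_prime_orderOf_dvd_card' (G := ↥(A ⊓ MulAut.conj g • A)) p hpd
    have hxo : orderOf (x : G) = p := by rw [Subgroup.orderOf_coe, hx]
    obtain ⟨r, hr, hrd, hrp⟩ := h.exists_two p
    haveI := Fact.mk hr
    have hxg : g⁻¹ * (x : G) * g ∈ A := mem_conj_smul.1 x.2.2
    have hPC : MulAut.conj g • part A r ≤ Subgroup.centralizer ({(x : G)} : Set G) := by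
      intro y hy
      rw [mem_conj_smul] at hy
      have h1 : IsPGroup p (Subgroup.zpowers (g⁻¹ * (x : G) * g)) := isPGroup_zpowers_prime (by
        rw [show g⁻¹ * (x : G) * g = MulAut.conj g⁻¹ (x : G) by simp [MulAut.conj_apply],
          MulEquiv.orderOf_eq, hxo])
      have h2 := Subgroup.mem_centralizer_iff.1
        (part_le_centralizer hrp (Subgroup.zpowers_le.2 hxg) h1 hy) _ (Subgroup.mem_zpowers _)
      refine mem_centralizer_singleton.2 ?_
      calc y * x = g * ((g⁻¹ * y * g) * (g⁻¹ * x * g)) * g⁻¹ := by simp [mul_assoc]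
        _ = x * y := by rw [← h2]; simp [mul_assoc]
    have hle : MulAut.conj g • part A r ≤ part A r := by
      refine le_part (h.le_left_of_le_normalizer
        (hPC.trans (h.centralizer_prime_le x.2.1 hxo)) ?_) ((isPGroup_part A r).map _)
      rw [card_conj_smul]
      exact h.cop.coprime_dvd_left (Subgroup.card_dvd_of_le (part_le A r))
    exact hg (h.normalizer_part_le hrd (conj_smul_eq_self_iff.1
      (Subgroup.eq_of_le_of_card_ge hle (card_conj_smul g _).ge)))
  have h1 := Hall.card_mul_inf A (MulAut.conj g • A)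
  rw [hTI, Subgroup.card_bot, mul_one, card_conj_smul] at h1
  have h2 : Nat.card A * Nat.card A ≤ Nat.card A * Nat.card B := by
    rw [← h.card_eq, ← h1, ← Nat.card_univ (α := G)]
    exact Nat.card_mono (Set.toFinite (Set.univ : Set G)) (Set.subset_univ _)
  exact Nat.le_of_mul_le_mul_left h2 Nat.card_pos

end Cfsg.Agent.SolvStruct.Kegel.Min
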